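import Cfsg.Agent.H740.K4.Equiv_m3
import Cfsg.Agent.H921.K4.Uniq_m3
import Cfsg.Agent.H300.K4.JTwo_m3
import Cfsg.Agent.H417.DegMTwelve
import Cfsg.Agent.MTwelveType.SylowModel
import Cfsg.Agent.FooteOdd.SporMTwelve
import Cfsg.Agent.H55.OutGen
import Cfsg.Agent.S2066
import Cfsg.Agent.H813.K547.FiTF_m3
import Cfsg.Agent.H714.DG.Top_m3
import Cfsg.Agent.H707.RowTitsModel
import Cfsg.Agent.H978.Alm.Affine_m3
import Cfsg.Agent.Schreier.SylMTwentyTwo
import Cfsg.Agent.H600.EB.TitsMain
import Cfsg.Agent.EvenType.ChevTwoTits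
import Cfsg.Agent.H678.DG.Tits_m3
import Cfsg.Agent.H332.EB.McLAut
import Cfsg.Agent.H723.Spor.MOrders
import Cfsg.Agent.S0401
import Cfsg.Agent.S1579
import Cfsg.Agent.SporRec.SuzCl.TData
import Cfsg.Agent.H299.K4.Suz_m3
import Cfsg.Agent.FastGrp
import Cfsg.Agent.Prune
set_option linter.all false

section
prune_inst 0x7fd3fef99fa8fddfdfff7e7ffffddffdf1eaefffefdff9fbffe8ef9f2fdf6b0e6be5fba76fe210ff0ec6e0bc10f87b13fb7eceffeb6bdc7ffffd5df45ffbff8ffdf7bd0871df9cbe0fbc2fff03f07fae7f3fffffffffffffffffffffffffffbeffffffffffff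

-- part: H128/K547/M12_mg
section
prune_inst 0x20000000000000000400000010000000000500400000006104100008800c0000b020020000000000000000000000000000000000000000100208000000000000004240009800000000000000000000000000000000000041000000000000
set_option linter.all false
open scoped Cfsg.Agent.FastGrp

-- part: H128/K547/Par
section
/-!
# S4547: the parity tool (PAR) (helper128, for the rows)

`τ` an automorphism of 2-power order modulo inner automorphisms.

* `sum_good` : the sum of the values of the `Good` characters at an element `t` of odd order is zero modulo `M`;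
* `sum_good_inv` : the same over the `τ`-invariant `Good` characters if `τ t` and `t` are conjugate;
* `ginv3_of_par` : a `τ`-invariant `Good` character with an even integral value at such an element gives `GInv3 τ`;
* `good_of_unique` : an irreducible character of odd degree which is the only one of its degree is `Good` and invariant
  under all automorphisms.
-/

set_option autoImplicit false

open scoped ComplexConjugate

namespace Cfsg.Agent.H128.K547

open Cfsg Cfsg.Agent.Characters.Core Cfsg.Agent.H618.Sigma Cfsg.Agent.Blocks.Local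
open Cfsg.Agent.H821.K547 Cfsg.Agent.H601.K4

universe u

variable {S : Type u} [Group S]

/-- the `Good` characters -/
abbrev GoodC (S : Type u) [Group S] : Type u := {χ : IrrCharacter S // Good (χ : S → ℂ)}

/-- the sum over the `Good` characters -/
theorem sum_good [Finite S] {M : Ideal AlgInt} [M.IsPrime] (hM : IsPModular 2 M) (hev : Even (Nat.card S))
    [Fintype (GoodC S)] {t : S} (ht : Odd (orderOf t)) :
    ∑ χ : GoodC S, redC M ((χ.1 : S → ℂ) t) = 0 := by
  classical
  obtain ⟨k, hk⟩ := H740.K4.exists_cube S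
  have := Fintype.ofFinite (OddB M S)
  rw [← sum_fixed_principal hM hk hev ht]
  refine Finset.sum_bij' (fun χ _ => (⟨χ.1, χ.2.b0 M hM χ.1.2, odd_iff.2 χ.2.odd.2⟩ : OddB M S))
    (fun χ hχ => (⟨χ.1, H740.K4.good_of_mem hM hk χ (Finset.mem_filter.1 hχ).2⟩ : GoodC S)) ?_ ?_ ?_ ?_ ?_
  · intro χ _
    rw [Finset.mem_filter]
    exact ⟨Finset.mem_univ _, (sigB_eq_iff hk _).2 fun g => χ.2.sig k hk.two hk.odd g⟩
  · intro χ _
    exact Finset.mem_univ _
  · intro χ _
    rfl
  · intro χ _
    rfl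
  · intro χ _
    rfl

/-- the action of an automorphism on the `Good` characters -/
def tw (τ : MulAut S) (χ : GoodC S) : GoodC S :=
  ⟨⟨fun g => (χ.1 : S → ℂ) (τ g), (H740.K4.good_comp τ χ.2).odd.1⟩, H740.K4.good_comp τ χ.2⟩

theorem tw_apply (τ : MulAut S) (χ : GoodC S) (g : S) : ((tw τ χ).1 : S → ℂ) g = (χ.1 : S → ℂ) (τ g) := rfl

theorem tw_eq_iff {τ : MulAut S} {χ : GoodC S} : tw τ χ = χ ↔ ∀ g, (χ.1 : S → ℂ) (τ g) = (χ.1 : S → ℂ) g := by
  constructor
  · intro h g
    rw [← tw_apply, h]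
  · intro h
    exact Subtype.ext (Subtype.ext (funext h))

theorem tw_iter (τ : MulAut S) (m : ℕ) (χ : GoodC S) (g : S) :
    (((tw τ)^[m] χ).1 : S → ℂ) g = (χ.1 : S → ℂ) ((τ ^ m) g) := by
  induction m generalizing χ with
  | zero => rfl
  | succ m ih =>
    rw [Function.iterate_succ_apply, ih, tw_apply, pow_succ']
    rfl

theorem tw_period {τ : MulAut S} {k : ℕ} {s : S} (h : ∀ x, (τ ^ 2 ^ k) x = s * x * s⁻¹) (χ : GoodC S) :
    (tw τ)^[2 ^ k] χ = χ := by
  apply Subtype.ext
  apply Subtype.ext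
  funext g
  rw [tw_iter, h]
  exact isIrr_isClassFunction χ.1.2 g s

/-- the sum over the invariant `Good` characters -/
theorem sum_good_inv [Finite S] {M : Ideal AlgInt} [M.IsPrime] (hM : IsPModular 2 M) (hev : Even (Nat.card S))
    [Fintype (GoodC S)] [DecidableEq (GoodC S)] {τ : MulAut S} (hτ : TwoPow τ) {t : S} (ht : Odd (orderOf t))
    (hc : IsConj (τ t) t) :
    ∑ χ : GoodC S with tw τ χ = χ, redC M ((χ.1 : S → ℂ) t) = 0 := by
  obtain ⟨k, s, hs⟩ := hτ
  have hchar := charP_resField hM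
  rw [← sum_good hM hev ht]
  symm
  refine sum_fixed_perm (tw τ) k (tw_period hs) _ fun χ => ?_
  rw [tw_apply]
  obtain ⟨g, hg⟩ := isConj_iff.1 hc
  congr 1
  conv_rhs => rw [← hg]
  exact (isIrr_isClassFunction χ.1.2 _ g).symm

/-- **(PAR)** -/
theorem ginv3_of_par [Finite S] (hev : Even (Nat.card S)) {τ : MulAut S} (hτ : TwoPow τ) {χ : S → ℂ} (hχ : Good χ)
    (hinv : ∀ x, χ (τ x) = χ x) {t : S} (ht : Odd (orderOf t)) (hc : IsConj (τ t) t) {z : ℤ} (hz : χ t = z)
    (hz2 : Even z) : GInv3 τ := by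
  classical
  obtain ⟨M, hM⟩ := Cfsg.Agent.Blocks.ExistsModular.exists_isPModular Nat.prime_two
  have : M.IsPrime := hM.2.1.isPrime
  have hfin : Finite (IrrCharacter S) := finite_irr
  have := Fintype.ofFinite (GoodC S)
  have hchar := charP_resField hM
  have h1 := sum_good_inv hM hev hτ ht hc
  let o : GoodC S := ⟨⟨fun _ => 1, Cfsg.Agent.Blocks.Basic.isIrrCharacter_one⟩, H740.K4.good_one'⟩
  let c : GoodC S := ⟨⟨χ, hχ.odd.1⟩, hχ⟩
  have ho : tw τ o = o := tw_eq_iff.2 fun g => rfl
  have hcc : tw τ c = c := tw_eq_iff.2 hinv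
  have hoc : o ≠ c := by
    intro h
    have h2 : (1 : ℂ) = χ t := congrArg (fun x : GoodC S => (x.1 : S → ℂ) t) h
    rw [hz] at h2
    have h3 : (1 : ℤ) = z := by exact_mod_cast h2
    rw [← h3] at hz2
    exact absurd hz2 (by decide)
  by_cases h3 : ∃ x : GoodC S, tw τ x = x ∧ x ≠ o ∧ x ≠ c
  · obtain ⟨x, hx, hxo, hxc⟩ := h3
    have hne : ∀ {a b : GoodC S}, a ≠ b → ((a.1 : S → ℂ)) ≠ (b.1 : S → ℂ) := fun h h' =>
      h (Subtype.ext (Subtype.ext h'))
    refine ⟨![(o.1 : S → ℂ), (c.1 : S → ℂ), (x.1 : S → ℂ)], ?_, ?_⟩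
    · intro i j hij
      fin_cases i <;> fin_cases j <;>
        first | rfl | exact absurd hij (hne hoc) | exact absurd hij.symm (hne hoc) | exact absurd hij (hne hxo) |
          exact absurd hij.symm (hne hxo) | exact absurd hij (hne hxc) | exact absurd hij.symm (hne hxc)
    · intro i
      fin_cases i
      · exact ⟨o.2, fun x => rfl⟩
      · exact ⟨c.2, hinv⟩
      · exact ⟨x.2, tw_eq_iff.1 hx⟩
  · exfalso
    push Not at h3
    have h4 : (Finset.univ.filter fun x : GoodC S => tw τ x = x) = {o, c} := by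
      ext x
      rw [Finset.mem_filter, Finset.mem_insert, Finset.mem_singleton]
      constructor
      · rintro ⟨-, hx⟩
        by_cases hxo : x = o
        · exact Or.inl hxo
        · exact Or.inr (h3 x hx hxo)
      · rintro (rfl | rfl)
        · exact ⟨Finset.mem_univ _, ho⟩
        · exact ⟨Finset.mem_univ _, hcc⟩
    rw [h4, Finset.sum_pair hoc] at h1
    have h5 : redC M ((o.1 : S → ℂ) t) = ((1 : ℤ) : ResField M) := by
      have h6 : ((o.1 : S → ℂ) t) = ((1 : ℤ) : ℂ) := by
        rw [Int.cast_one]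
      rw [h6, redC_intCast]
    have h6 : redC M ((c.1 : S → ℂ) t) = ((z : ℤ) : ResField M) := by
      have h7 : ((c.1 : S → ℂ) t) = ((z : ℤ) : ℂ) := hz
      rw [h7, redC_intCast]
    rw [h5, h6, ← Int.cast_add] at h1
    have h7 : ((2 : ℕ) : ℤ) ∣ 1 + z := (CharP.intCast_eq_zero_iff (ResField M) 2 _).1 h1
    obtain ⟨w, hw⟩ := hz2
    omega

/-- an irreducible character of odd degree which is the only one of its degree -/
theorem good_of_unique [Finite S] {χ : S → ℂ} (hχ : IsIrrCharacter S χ) (hodd : Odd (charDegree χ))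
    (hu : ∀ ψ : S → ℂ, IsIrrCharacter S ψ → charDegree ψ = charDegree χ → ψ = χ) :
    Good χ ∧ ∀ (τ : MulAut S) (x : S), χ (τ x) = χ x := by
  have hirr : OddIrr χ := ⟨hχ, odd_iff.1 hodd⟩
  refine ⟨⟨hirr, ?_, ?_⟩, ?_⟩
  · apply SigFix.of_pow
    intro k hk g
    have h1 := hu (fun g => χ (g ^ k)) (Cfsg.Agent.Characters.GaloisIrr.isIrr_pow hk hχ) (by
      unfold charDegree
      simp only [one_pow])
    exact congrFun h1 g
  · apply InB0.of_real hirr
    intro g
    have h1 := hu (fun g => conj (χ g)) (isIrr_conj hχ) (by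
      unfold charDegree
      simp)
    exact Complex.conj_eq_iff_im.1 (congrFun h1 g)
  · intro τ x
    have h1 := hu (fun g => χ (τ g)) (isIrr_comp τ.toMonoidHom τ.surjective hχ) (by
      unfold charDegree
      simp only [map_one])
    exact congrFun h1 x

end Cfsg.Agent.H128.K547
end

-- part: H128/K547/M12
section
/-!
# S4547: the row of `M12` (helper128, task 5043)

* `d3_model` : the Sylow 2-subgroups of `M12` need three generators;
* `conj_five` : all elements of order 5 are conjugate;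
* `good45` : the character of degree 45 is `Good` and invariant; `ginv3` : `GInv3 τ` for every `τ`.
-/

set_option autoImplicit false

namespace Cfsg.Agent.H128.K547.M12

open Cfsg Cfsg.Agent.Characters.Core
open Cfsg.Agent.H821.K547 Cfsg.Agent.H601.K4
open Cfsg.Agent.H419.Spor.M12 Cfsg.Agent.H419.Spor.Mathieu

universe u

/-! ### elements of order five -/

/-- an element of order 11 -/
noncomputable def xm : Spor.M12 := ⟨M, mem12 M_mem (by decide +kernel)⟩

/-- an element of order 5 -/
noncomputable def y5 : Spor.M12 := xm * x6 * x6 * x6 * x6 * xm * xm * x6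

/-- it maps `y5` to its square -/
noncomputable def g5 : Spor.M12 := x6 * xm * xm

private def cdY (p : GolayPt) : ℕ := Option.rec 23 ZMod.val p

private def tbY (t n : ℕ) : ℕ := Nat.mod (Nat.shiftRight t (Nat.mul 5 n)) 32

private theorem cdY_inj : ∀ p q : GolayPt, cdY p = cdY q → p = q
  | none, none, _ => rfl
  | none, some y, h => absurd (show 23 = y.val from h) (ZMod.val_lt y).ne'
  | some x, none, h => absurd (show x.val = 23 from h) (ZMod.val_lt x).ne
  | some _, some _, h => congrArg some (ZMod.val_injective 23 h)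

private theorem cdY_w : ∀ p : GolayPt, cdY (w6 p) = tbY 734927351443890186425915136310001868 (cdY p) := by decide +kernel

private theorem cdY_m : ∀ p : GolayPt, cdY (M p) = tbY 983435072843990828779021698901151808 (cdY p) := by decide +kernel

theorem y5_conj : g5 * y5 = y5 * y5 * g5 := by
  apply Subtype.ext
  show w6 * M * M * (M * w6 * w6 * w6 * w6 * M * M * w6) =
    M * w6 * w6 * w6 * w6 * M * M * w6 * (M * w6 * w6 * w6 * w6 * M * M * w6) * (w6 * M * M)
  have hw := cdY_w
  generalize w6 = w at hw ⊢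
  refine Equiv.ext fun p => cdY_inj _ _ ?_
  simp only [Equiv.Perm.mul_apply, hw, cdY_m]
  revert p
  decide +kernel

theorem y5_pow : y5 ^ 5 = 1 := by
  apply Subtype.ext
  show (M * w6 * w6 * w6 * w6 * M * M * w6) ^ 5 = 1
  have hw := cdY_w
  generalize w6 = w at hw ⊢
  refine Equiv.ext fun p => cdY_inj _ _ ?_
  simp only [pow_succ, pow_zero, Equiv.Perm.mul_apply, Equiv.Perm.one_apply, hw, cdY_m]
  revert p
  decide +kernel

theorem y5_ne : y5 ≠ 1 := by
  intro h
  have h1 : M * w6 * w6 * w6 * w6 * M * M * w6 = 1 := congrArg Subtype.val h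
  have h2 := Equiv.ext_iff.1 h1
  revert h2
  decide +kernel

theorem y5_order : orderOf y5 = 5 := by
  have : Fact (Nat.Prime 5) := ⟨by norm_num⟩
  exact orderOf_eq_prime y5_pow y5_ne

/-- all elements of order 5 are conjugate if one is conjugate to its square -/
theorem conj_five_of {G : Type u} [Group G] [Finite G] (h25 : ¬ 25 ∣ Nat.card G) {y g : G} (hy : orderOf y = 5)
    (hg : g * y = y * y * g) {t : G} (ht : orderOf t = 5) : IsConj y t := by
  classical
  have h5 : Fact (Nat.Prime 5) := ⟨by norm_num⟩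
  have hpg : ∀ z : G, orderOf z = 5 → IsPGroup 5 (Subgroup.zpowers z) := by
    intro z hz
    exact IsPGroup.of_card (n := 1) (by rw [Nat.card_zpowers, hz, pow_one])
  obtain ⟨P, hP⟩ := (hpg y hy).exists_le_sylow
  obtain ⟨P', hP'⟩ := (hpg t ht).exists_le_sylow
  have hcP : Nat.card P = 5 := by
    have h1 := P.card_eq_multiplicity
    have h2 : (Nat.card G).factorization 5 < 2 := by
      by_contra hcon
      push Not at hcon
      apply h25
      exact ((h5.out.pow_dvd_iff_le_factorization Nat.card_pos.ne').2 hcon : 5 ^ 2 ∣ Nat.card G)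
    have h3 : 5 ≤ Nat.card P := by
      have h4 := Subgroup.card_dvd_of_le hP
      rw [Nat.card_zpowers, hy] at h4
      exact Nat.le_of_dvd Nat.card_pos h4
    rw [h1] at h3 ⊢
    generalize (Nat.card G).factorization 5 = k at h2 h3
    interval_cases k <;> simp_all only [_root_.Subgroup.zpowers_le, _root_.Order.lt_two_iff, _root_.zero_le, _root_.pow_zero, _root_.Nat.not_ofNat_le_one, _root_.Std.le_refl, _root_.pow_one]
  have hPy : (P : Subgroup G) = Subgroup.zpowers y := by
    symm
    apply Subgroup.eq_of_le_of_card_ge hP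
    rw [Nat.card_zpowers, hy]
    exact hcP.le
  obtain ⟨h, hh⟩ := MulAction.exists_smul_eq G P P'
  have htP : h⁻¹ * t * h ∈ Subgroup.zpowers y := by
    rw [← hPy]
    have h1 : t ∈ ((h • P : Sylow 5 G) : Subgroup G) := by
      rw [hh]
      exact hP' (Subgroup.mem_zpowers t)
    rw [Sylow.coe_subgroup_smul, Subgroup.mem_pointwise_smul_iff_inv_smul_mem] at h1
    have h2 : (MulAut.conj h)⁻¹ • t = h⁻¹ * t * h := by
      rw [← map_inv, MulAut.smul_def, MulAut.conj_apply, inv_inv]
    rw [h2] at h1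
    exact h1
  have hc1 : IsConj y (y ^ 2) := isConj_iff.2 ⟨g, by rw [hg, pow_two]; group⟩
  have hpow : ∀ {a : G} (k : ℕ), IsConj y a → IsConj (y ^ k) (a ^ k) := fun {a} k h => h.pow k
  have hc2 : IsConj y (y ^ 4) := by
    have h1 := hpow 2 hc1
    rw [← pow_mul] at h1
    exact hc1.trans h1
  have hc3 : IsConj y (y ^ 3) := by
    have h1 := hpow 4 hc1
    rw [← pow_mul] at h1
    have h2 : y ^ (2 * 4) = y ^ 3 := by
      rw [show 2 * 4 = 5 + 3 by norm_num, pow_add, ← hy, pow_orderOf_eq_one, one_mul]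
    rw [h2] at h1
    exact hc2.trans h1
  have hconj : IsConj (h⁻¹ * t * h) t := isConj_iff.2 ⟨h, by group⟩
  refine IsConj.trans ?_ hconj
  obtain ⟨i, hi, hi2⟩ : ∃ i, i < 5 ∧ y ^ i = h⁻¹ * t * h := by
    have h1 := mem_zpowers_iff_mem_range_orderOf.1 htP
    rw [Finset.mem_image] at h1
    obtain ⟨i, hi, hi2⟩ := h1
    rw [Finset.mem_range, hy] at hi
    exact ⟨i, hi, hi2⟩
  rw [← hi2]
  interval_cases i
  · exfalso
    have h1 : t = 1 := by
      rw [pow_zero] at hi2
      have h2 : t = h * (h⁻¹ * t * h) * h⁻¹ := by group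
      rw [h2, ← hi2]
      group
    rw [h1, orderOf_one] at ht
    omega
  · rw [pow_one]
  · exact hc1
  · exact hc3
  · exact hc2

/-! ### the Sylow 2-subgroup -/

open Cfsg.Agent.ClassificationK.GTwoModel in
/-- three homomorphisms on the Sylow 2-subgroup -/
def f3 (x : _root_.Cfsg.Agent.ClassificationK.GTwoModel.T (2 * 2)) : Fin 3 → ZMod 2 :=
  ![((x.i.val + x.j.val : ℕ) : ZMod 2), if x.e then 1 else 0, if x.d then 1 else 0]

open Cfsg.Agent.ClassificationK.GTwoModel in
theorem f3_mul : ∀ (i j i' j' : ZMod (2 * 2)) (e d e' d' : Bool),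
    f3 ((⟨i, j, e, d⟩ : _root_.Cfsg.Agent.ClassificationK.GTwoModel.T (2 * 2)) * ⟨i', j', e', d'⟩) = f3 ⟨i, j, e, d⟩ + f3 ⟨i', j', e', d'⟩ := by
  have A : ∀ (a b : ZMod (2 * 2)) (e : Bool), (((a + sg (2 * 2) e * b).val : ℕ) : ZMod 2) = (a.val : ℕ) + (b.val : ℕ) := by
    decide +kernel
  have B : ∀ a b : Bool, (if xor a b then 1 else 0 : ZMod 2) = (if a then 1 else 0) + if b then 1 else 0 := by decide +kernel
  intro i j i' j' e d e' d'
  refine funext (Fin.forall_fin_succ.2 ⟨?_, Fin.forall_fin_two.2 ⟨B e e', B d d'⟩⟩)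
  show (((i + sg (2 * 2) e * cond d j' i').val + (j + sg (2 * 2) e * cond d i' j').val : ℕ) : ZMod 2) =
    ((i.val + j.val : ℕ) : ZMod 2) + ((i'.val + j'.val : ℕ) : ZMod 2)
  rw [Nat.cast_add, Nat.cast_add, Nat.cast_add, A, A]
  cases d
  · exact add_add_add_comm _ _ _ _
  · exact (add_add_add_comm _ _ _ _).trans (congrArg _ (add_comm _ _))

open Cfsg.Agent.ClassificationK.GTwoModel in
theorem f3_surj : ∀ v : Fin 3 → ZMod 2, ∃ i : ZMod (2 * 2), ∃ e d : Bool, f3 (⟨i, 0, e, d⟩ : _root_.Cfsg.Agent.ClassificationK.GTwoModel.T (2 * 2)) = v := by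
  decide +kernel

open Cfsg.Agent.ClassificationK.GTwoModel in
theorem rk_model : Rk 3 (_root_.Cfsg.Agent.ClassificationK.GTwoModel.T (2 * 2)) := by
  refine ⟨MonoidHom.mk' (fun x => Multiplicative.ofAdd (f3 x)) ?_, ?_⟩
  · rintro ⟨i, j, e, d⟩ ⟨i', j', e', d'⟩
    exact congrArg Multiplicative.ofAdd (f3_mul i j i' j' e d e' d')
  · intro v
    obtain ⟨i, e, d, hv⟩ := f3_surj (Multiplicative.toAdd v)
    exact ⟨⟨i, 0, e, d⟩, congrArg Multiplicative.ofAdd hv⟩

section

variable {S : Type u} [Group S] (h : Spor.IsoM12 S)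

include h

theorem card : Nat.card S = 95040 := by
  obtain ⟨e⟩ := h
  rw [Nat.card_congr e.toEquiv]
  exact Cfsg.Agent.MTwelveType.SylowModel.card_M12

theorem finite' : Finite S := Nat.finite_of_card_ne_zero (by rw [card h]; norm_num)

theorem simple : IsSimpleGroup S := by
  obtain ⟨e⟩ := h
  have := Cfsg.Agent.FooteOdd.SporMTwelve.simple
  exact e.isSimpleGroup

/-- the Sylow 2-subgroups need three generators -/
theorem d3 : D3 S := by
  have hfin := finite' h
  have h2 : Fact (Nat.Prime 2) := ⟨Nat.prime_two⟩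
  intro Q
  obtain ⟨e⟩ := h
  obtain ⟨e1⟩ := Cfsg.Agent.MTwelveType.SylowModel.exists_equiv (Q.mapSurjective (f := e.toMonoidHom) e.surjective)
  obtain ⟨g, hg⟩ := rk_model
  let e2 : ↥(Q : Subgroup S) ≃* ↥((Q.mapSurjective (f := e.toMonoidHom) e.surjective : Sylow 2 Spor.M12) :
      Subgroup Spor.M12) := e.subgroupMap (Q : Subgroup S)
  exact ⟨g.comp (e1.symm.toMonoidHom.comp e2.toMonoidHom), hg.comp (e1.symm.surjective.comp e2.surjective)⟩

/-- every automorphism fixes the class of an element of order five -/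
theorem conj_five : ∃ t : S, orderOf t = 5 ∧ ∀ τ : MulAut S, IsConj (τ t) t := by
  have := finite' h
  have hc := card h
  obtain ⟨e⟩ := h
  have h1 : orderOf (e.symm y5) = 5 := by rw [MulEquiv.orderOf_eq, y5_order]
  refine ⟨e.symm y5, h1, fun τ => ?_⟩
  refine (conj_five_of (y := e.symm y5) (g := e.symm g5) ?_ h1 ?_ ?_).symm
  · rw [hc]
    norm_num
  · rw [← map_mul, ← map_mul, ← map_mul, y5_conj]
  · rw [MulEquiv.orderOf_eq, h1]

/-- **the character of degree 45** -/
theorem good45 : ∃ χ : S → ℂ, χ 1 = (45 : ℕ) ∧ Good χ ∧ ∀ (τ : MulAut S) (x : S), χ (τ x) = χ x := by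
  classical
  have hfin := finite' h
  have hs := simple h
  have hc := card h
  have := Fintype.ofFinite S
  have := finite_irr (G := S)
  have := Fintype.ofFinite (IrrCharacter S)
  obtain ⟨C, t, hdeg, ho, -, -, -⟩ := H417.DegMTwelve.exists_ctx hc
    (fun P => Cfsg.Agent.MTwelve.SylowEleven.centralizer_sylow11 hc P)
    (fun P => Cfsg.Agent.MTwelve.SylowEleven.card_normalizer_sylow11 hc P)
  have hcd : ∀ ψ : IrrCharacter S, charDegree (ψ : S → ℂ) = C.deg ψ := fun ψ => by
    rw [hdeg]
    exact Cfsg.Agent.MTwelve.ElevenMain.charDegree_eq_deg ψ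
  have hone : ∀ ψ : IrrCharacter S, (ψ : S → ℂ) 1 = (C.deg ψ : ℕ) := fun ψ => by
    rw [hdeg]
    exact Cfsg.Agent.MTwelve.BlockData.apply_one ψ
  refine ⟨C.c45, by rw [hone, C.d45], ?_⟩
  apply good_of_unique C.c45.2
  · rw [hcd, C.d45]
    exact ⟨22, rfl⟩
  · intro ψ hψ hd
    rw [hcd, C.d45] at hd
    have h1 : C.deg ⟨ψ, hψ⟩ = 45 := by rw [← hcd]; exact hd
    have h2 : (⟨ψ, hψ⟩ : IrrCharacter S) = C.c45 := by
      rcases C.rest ⟨ψ, hψ⟩ with h3 | h3 | h3 | h3 | h3 | h3 | h3 | h3
      · rw [h3, C.deg_o] at h1; omega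
      · exact h3
      · rw [h3, C.d54] at h1; omega
      · rw [h3, C.d120] at h1; omega
      · rw [h3, C.d144] at h1; omega
      · rw [h3, C.dth] at h1; omega
      · rw [h3, C.dth'] at h1; omega
      · rw [h1] at h3; omega
    exact congrArg Subtype.val h2

/-- **`GInv3 τ` for all automorphisms** -/
theorem ginv3 {τ : MulAut S} (hτ : TwoPow τ) : GInv3 τ := by
  have hfin := finite' h
  have hc := card h
  obtain ⟨χ, h1, h2, h3⟩ := good45 h
  obtain ⟨t, ht, ht2⟩ := conj_five h
  refine ginv3_of_par (by rw [hc]; exact ⟨47520, rfl⟩) hτ h2 (h3 τ) (t := t) (by rw [ht]; exact ⟨2, rfl⟩) (ht2 τ)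
    (z := 0) ?_ ⟨0, rfl⟩
  rw [Int.cast_zero]
  exact H740.K4.zero_of_dvd (p := 5) (n := 1) (by norm_num) (by rw [hc]; norm_num) (by rw [hc]; norm_num) h2.odd.1 h1
    (by norm_num) (by rw [ht])

/-- the squares of the automorphisms are inner -/
theorem sq_inner (τ : MulAut S) : ∃ s : S, ∀ x, (τ ^ 2) x = s * x * s⁻¹ := by
  obtain ⟨e⟩ := h
  let α : MulAut Spor.M12 := (e.symm.trans τ).trans e
  have hα : ∀ y, α y = e (τ (e.symm y)) := fun _ => rfl
  have hbt : ∀ y : Spor.M12, bt (bt y) = y := by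
    intro y
    apply Subtype.ext
    have h2 : projInv * projInv = (1 : Equiv.Perm GolayPt) := by
      apply Equiv.ext
      decide +kernel
    have h3 : (projInv : Equiv.Perm GolayPt)⁻¹ = projInv := inv_eq_of_mul_eq_one_left h2
    show projInv * (projInv * (y : Equiv.Perm GolayPt) * projInv⁻¹) * projInv⁻¹ = y
    rw [h3]
    calc projInv * (projInv * (y : Equiv.Perm GolayPt) * projInv) * projInv =
        (projInv * projInv) * y * (projInv * projInv) := by simp only [mul_assoc]
      _ = y := by rw [h2, one_mul, mul_one]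
  have key : ∃ m : Spor.M12, ∀ y, α (α y) = m * y * m⁻¹ := by
    rcases mem_or α with ⟨m, hm⟩ | ⟨m, hm⟩
    · refine ⟨m * m, fun y => ?_⟩
      rw [hm]
      simp only [MulAut.conj_apply]
      group
    · refine ⟨m * bt m, fun y => ?_⟩
      rw [hm]
      simp only [MulAut.mul_apply, MulAut.conj_apply, map_mul, map_inv, hbt]
      group
  obtain ⟨m, hm⟩ := key
  refine ⟨e.symm m, fun x => ?_⟩
  have h1 := hm (e x)
  rw [hα, hα, e.symm_apply_apply, e.symm_apply_apply] at h1
  have h2 := congrArg e.symm h1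
  rw [e.symm_apply_apply, map_mul, map_mul, map_inv, e.symm_apply_apply] at h2
  rw [pow_two]
  exact h2

/-- **The row of `M12`** from the tool (JORDAN). -/
theorem row_of (J : ∀ τ : MulAut S, D3 S → (∃ s : S, ∀ x, (τ ^ 2) x = s * x * s⁻¹) → ¬ IsInn τ → D3 (AutExt τ)) :
    Row S where
  base := Or.inl ⟨H395.K4.M12.good5 h, d3 h⟩
  ext := fun τ hτ hi => ⟨fun _ => J τ (d3 h) (sq_inner h τ) hi, fun _ => ginv3 h hτ⟩

end

end Cfsg.Agent.H128.K547.M12
end

-- part: H832/K547/Split
section
/-!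
# S4547: rows of simple groups with a split outer automorphism of order 2 (helper832)

* `d3_of_sub` : `D3 G` from an explicit Sylow 2-subgroup and a homomorphism onto `C_2 ^ 3`; `d3_of_equiv`.
* `rk_split`, `d3_split` : a subgroup of index 2 with `Rk 3` (`D3`) and an involution outside give `Rk 3` (`D3`).
* `row_of_involution` : **`|Out S| = 2`, `Good5 S`, `D3 S` and a non-inner automorphism `c` with `c * c = 1`, `GInv3 c`
  give `Row S`** (no transfer argument is needed in the split case).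
-/

set_option autoImplicit false

namespace Cfsg.Agent.H832.K547

open Cfsg Cfsg.Agent.H821.K547

universe u v

/-! ### `D3` from an explicit Sylow 2-subgroup -/

theorem d3_of_sub {X : Type u} [Group X] [Finite X] (P : Subgroup X) {k : ℕ} (hP : Nat.card P = 2 ^ k)
    (hX : ¬ 2 ^ (k + 1) ∣ Nat.card X) (f : P →* Multiplicative (Fin 3 → ZMod 2)) (hf : Function.Surjective f) : D3 X := by
  intro Q
  have hfac : (Nat.card X).factorization 2 = k := by
    have h0 : Nat.card X ≠ 0 := Nat.card_pos.ne'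
    have h1 : 2 ^ k ∣ Nat.card X := hP ▸ Subgroup.card_subgroup_dvd_card P
    refine le_antisymm ?_ ((Nat.prime_two.pow_dvd_iff_le_factorization h0).1 h1)
    by_contra hlt
    push Not at hlt
    exact hX ((Nat.prime_two.pow_dvd_iff_le_factorization h0).2 hlt)
  let P' : Sylow 2 X := Sylow.ofCard P (by rw [hfac, hP])
  let e : Q ≃* P := Sylow.equiv Q P'
  exact ⟨f.comp e.toMonoidHom, hf.comp e.surjective⟩

theorem d3_of_equiv {X : Type u} {Y : Type v} [Group X] [Finite X] [Group Y] (e : X ≃* Y) (h : D3 Y) : D3 X := by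
  intro Q
  let Q' : Sylow 2 Y := Q.mapSurjective (f := e.toMonoidHom) e.surjective
  obtain ⟨f, hf⟩ := h Q'
  let i : Q ≃* Q' := (Q : Subgroup X).equivMapOfInjective e.toMonoidHom e.injective
  exact ⟨f.comp i.toMonoidHom, hf.comp i.surjective⟩

/-! ### the split extension -/

/-- two different nontrivial elements of a subgroup with at least three elements -/
theorem exists_two {H : Type u} [Group H] (K : Subgroup H) (hK : 3 ≤ Nat.card K) :
    ∃ x ∈ K, ∃ y ∈ K, x ≠ 1 ∧ y ≠ 1 ∧ x ≠ y := by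
  classical
  have hfin : Finite K := Nat.finite_of_card_ne_zero (by omega)
  have := Fintype.ofFinite K
  rw [Nat.card_eq_fintype_card, ← Finset.card_univ] at hK
  obtain ⟨a, b, c, -, -, -, hab, hac, hbc⟩ := Finset.two_lt_card_iff.1 (by omega : 2 < (Finset.univ : Finset K).card)
  have hv : ∀ {x y : K}, x ≠ y → (x : H) ≠ y := fun h h' => h (Subtype.ext h')
  by_cases ha : (a : H) = 1
  · exact ⟨b, b.2, c, c.2, fun h => hv hab (ha.trans h.symm), fun h => hv hac (ha.trans h.symm), hv hbc⟩
  · by_cases hb : (b : H) = 1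
    · exact ⟨a, a.2, c, c.2, ha, fun h => hv hbc (hb.trans h.symm), hv hac⟩
    · exact ⟨a, a.2, b, b.2, ha, hb, hv hab⟩

theorem z2_cases (x : Multiplicative (ZMod 2)) : x = 1 ∨ x = Multiplicative.ofAdd 1 := by
  revert x
  decide

theorem surj_two {R : Type u} [Group R] {l m : R →* Multiplicative (ZMod 2)} (hl : l ≠ 1) (hm : m ≠ 1) (hlm : l ≠ m)
    (a b : Multiplicative (ZMod 2)) : ∃ r : R, l r = a ∧ m r = b := by
  have h0 : ∀ {l : R →* Multiplicative (ZMod 2)}, l ≠ 1 → ∃ r, l r = Multiplicative.ofAdd 1 := by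
    intro l hl
    by_contra h
    push Not at h
    exact hl (MonoidHom.ext fun r => (z2_cases (l r)).resolve_right (h r))
  obtain ⟨x, hx⟩ := h0 hl
  obtain ⟨y, hy⟩ := h0 hm
  obtain ⟨w, hw⟩ : ∃ w, l w ≠ m w := by
    by_contra h
    push Not at h
    exact hlm (MonoidHom.ext h)
  have key : ∃ p q : R, l p = Multiplicative.ofAdd 1 ∧ m p = 1 ∧ l q = 1 ∧ m q = Multiplicative.ofAdd 1 := by
    rcases z2_cases (l w) with h1 | h1
    · have h2 : m w = Multiplicative.ofAdd 1 := (z2_cases (m w)).resolve_left fun h => hw (h1.trans h.symm)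
      rcases z2_cases (m x) with h3 | h3
      · exact ⟨x, w, hx, h3, h1, h2⟩
      · refine ⟨x * w, w, ?_, ?_, h1, h2⟩
        · rw [map_mul, hx, h1, mul_one]
        · rw [map_mul, h3, h2]; decide
    · have h2 : m w = 1 := (z2_cases (m w)).resolve_right fun h => hw (h1.trans h.symm)
      rcases z2_cases (l y) with h3 | h3
      · exact ⟨w, y, h1, h2, h3, hy⟩
      · refine ⟨w, w * y, h1, h2, ?_, ?_⟩
        · rw [map_mul, h1, h3]; decide
        · rw [map_mul, h2, hy, one_mul]
  obtain ⟨p, q, h1, h2, h3, h4⟩ := key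
  rcases z2_cases a with rfl | rfl <;> rcases z2_cases b with rfl | rfl
  · exact ⟨1, map_one _, map_one _⟩
  · exact ⟨q, h3, h4⟩
  · exact ⟨p, h1, h2⟩
  · exact ⟨p * q, by rw [map_mul, h1, h3, mul_one], by rw [map_mul, h2, h4, one_mul]⟩

section ext

variable {P : Type u} [Group P] {R : Subgroup P} {c : P}

open Classical in
/-- the extension of an invariant homomorphism -/
noncomputable def extHom (hR : R.index = 2) (hc : c * c = 1) (hcR : c ∉ R) (l : R →* Multiplicative (ZMod 2))
    (hl : ∀ (x : R) (hx : c * x * c ∈ R), l ⟨c * x * c, hx⟩ = l x) : P →* Multiplicative (ZMod 2) where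
  toFun p := if h : p ∈ R then l ⟨p, h⟩ else l ⟨p * c, (Subgroup.mul_mem_iff_of_index_two hR).2 (by (clear * - hcR h; tauto))⟩
  map_one' := by
    rw [dif_pos R.one_mem]
    exact map_one l
  map_mul' p q := by
    have hcc : ∀ x : P, c * (c * x) = x := fun x => by rw [← mul_assoc, hc, one_mul]
    by_cases hp : p ∈ R <;> by_cases hq : q ∈ R
    · rw [dif_pos hp, dif_pos hq, dif_pos (R.mul_mem hp hq), ← map_mul]
      rfl
    · have hpq : p * q ∉ R := by rw [Subgroup.mul_mem_iff_of_index_two hR]; tauto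
      rw [dif_pos hp, dif_neg hq, dif_neg hpq, ← map_mul]
      congr 1
      exact Subtype.ext (mul_assoc p q c)
    · have hpq : p * q ∉ R := by rw [Subgroup.mul_mem_iff_of_index_two hR]; (clear * - P R p q hp hq; tauto)
      rw [dif_neg hp, dif_pos hq, dif_neg hpq]
      have h1 : c * q * c ∈ R := by
        rw [Subgroup.mul_mem_iff_of_index_two hR, Subgroup.mul_mem_iff_of_index_two hR]; (clear * - hq; tauto)
      rw [← hl ⟨q, hq⟩ h1, ← map_mul]
      congr 1
      apply Subtype.ext
      show p * q * c = p * c * (c * q * c)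
      calc p * q * c = p * (c * (c * q)) * c := by rw [hcc]
        _ = p * c * (c * q * c) := by simp only [mul_assoc]
    · have hpq : p * q ∈ R := by rw [Subgroup.mul_mem_iff_of_index_two hR]; (clear * - hp hq; tauto)
      have hqc : q * c ∈ R := by rw [Subgroup.mul_mem_iff_of_index_two hR]; (clear * - hcR hq; tauto)
      rw [dif_neg hp, dif_neg hq, dif_pos hpq]
      have h1 : c * (q * c) * c ∈ R := by
        rw [Subgroup.mul_mem_iff_of_index_two hR, Subgroup.mul_mem_iff_of_index_two hR]; (clear * - hqc; tauto)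
      rw [← hl ⟨q * c, hqc⟩ h1, ← map_mul]
      congr 1
      apply Subtype.ext
      show p * q = p * c * (c * (q * c) * c)
      calc p * q = p * (c * (c * q)) * (c * c) := by rw [hcc, hc, mul_one]
        _ = p * c * (c * (q * c) * c) := by simp only [mul_assoc]

open Classical in
theorem extHom_mem (hR : R.index = 2) (hc : c * c = 1) (hcR : c ∉ R) (l : R →* Multiplicative (ZMod 2))
    (hl : ∀ (x : R) (hx : c * x * c ∈ R), l ⟨c * x * c, hx⟩ = l x) (x : R) : extHom hR hc hcR l hl x = l x := by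
  show (if h : (x : P) ∈ R then l ⟨x, h⟩ else l ⟨x * c, (Subgroup.mul_mem_iff_of_index_two hR).2 (by (clear * - hcR h; tauto))⟩) = l x
  rw [dif_pos x.2]

open Classical in
theorem extHom_c (hR : R.index = 2) (hc : c * c = 1) (hcR : c ∉ R) (l : R →* Multiplicative (ZMod 2))
    (hl : ∀ (x : R) (hx : c * x * c ∈ R), l ⟨c * x * c, hx⟩ = l x) : extHom hR hc hcR l hl c = 1 := by
  show (if h : c ∈ R then l ⟨c, h⟩ else l ⟨c * c, (Subgroup.mul_mem_iff_of_index_two hR).2 (by tauto)⟩) = 1
  rw [dif_neg hcR]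
  have h : (⟨c * c, (Subgroup.mul_mem_iff_of_index_two hR).2 (by tauto)⟩ : R) = 1 := Subtype.ext hc
  rw [h, map_one]

open Classical in
/-- the homomorphism with kernel `R` -/
noncomputable def sgHom (hR : R.index = 2) : P →* Multiplicative (ZMod 2) where
  toFun p := if p ∈ R then 1 else Multiplicative.ofAdd 1
  map_one' := if_pos R.one_mem
  map_mul' p q := by
    by_cases hp : p ∈ R <;> by_cases hq : q ∈ R
    · rw [if_pos hp, if_pos hq, if_pos (R.mul_mem hp hq), mul_one]
    · have hpq : p * q ∉ R := by rw [Subgroup.mul_mem_iff_of_index_two hR]; tauto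
      rw [if_pos hp, if_neg hq, if_neg hpq, one_mul]
    · have hpq : p * q ∉ R := by rw [Subgroup.mul_mem_iff_of_index_two hR]; tauto
      rw [if_neg hp, if_pos hq, if_neg hpq, mul_one]
    · have hpq : p * q ∈ R := by rw [Subgroup.mul_mem_iff_of_index_two hR]; tauto
      rw [if_neg hp, if_neg hq, if_pos hpq]
      decide

/-- **Split extensions**: a subgroup of index 2 of rank 3 and an outer involution. -/
theorem rk_split (hR : R.index = 2) (h3 : Rk 3 R) (hc : c * c = 1) (hcR : c ∉ R) : Rk 3 P := by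
  classical
  obtain ⟨f, hf⟩ := h3
  have hn : R.Normal := Subgroup.normal_of_index_eq_two hR
  have hcinv : c⁻¹ = c := inv_eq_of_mul_eq_one_right hc
  have hcm : ∀ x : R, c * (x : P) * c ∈ R := fun x => by
    have h := hn.conj_mem x x.2 c
    rwa [hcinv] at h
  have hcc : ∀ x : P, c * (c * x * c) * c = x := fun x => by
    calc c * (c * x * c) * c = (c * c) * x * (c * c) := by simp only [mul_assoc]
      _ = x := by rw [hc, one_mul, mul_one]
  -- conjugation by `c`
  let κ : R →* R :=
    { toFun := fun x => ⟨c * x * c, hcm x⟩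
      map_one' := Subtype.ext (by show c * 1 * c = 1; rw [mul_one, hc])
      map_mul' := fun x y => Subtype.ext (by
        show c * ((x : P) * y) * c = c * x * c * (c * y * c)
        calc c * ((x : P) * y) * c = c * x * 1 * (y * c) := by simp only [mul_assoc, mul_one]
          _ = c * x * (c * c) * (y * c) := by rw [hc]
          _ = _ := by simp only [mul_assoc]) }
  have hκ : ∀ x, κ (κ x) = x := fun x => Subtype.ext (hcc x)
  -- the homomorphisms to `C_2`
  let A := Multiplicative (Fin 3 → ZMod 2)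
  let F : A →* (R →* Multiplicative (ZMod 2)) :=
    { toFun := fun a => { toFun := fun x => Multiplicative.ofAdd (∑ i, Multiplicative.toAdd a i * Multiplicative.toAdd (f x) i)
                          map_one' := by rw [map_one]; simp
                          map_mul' := fun x y => by
                            rw [map_mul, ← ofAdd_add, ← Finset.sum_add_distrib]
                            congr 1
                            refine Finset.sum_congr rfl fun i _ => ?_
                            rw [← mul_add]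
                            rfl }
      map_one' := by
        ext x
        simp only [_root_.toAdd_one, _root_.Pi.zero_apply, _root_.MulZeroClass.zero_mul, _root_.Finset.sum_const_zero, _root_.ofAdd_zero, _root_.MonoidHom.coe_mk, _root_.OneHom.coe_mk, _root_.MonoidHom.one_apply]
      map_mul' := fun a b => by
        ext x
        show ∑ i, (Multiplicative.toAdd a i + Multiplicative.toAdd b i) * Multiplicative.toAdd (f x) i =
          ∑ i, Multiplicative.toAdd a i * Multiplicative.toAdd (f x) i +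
          ∑ i, Multiplicative.toAdd b i * Multiplicative.toAdd (f x) i
        rw [← Finset.sum_add_distrib]
        refine Finset.sum_congr rfl fun i _ => ?_
        ring }
  have hF : Function.Injective F := by
    rw [injective_iff_map_eq_one]
    intro a ha
    apply Multiplicative.toAdd.injective
    funext i
    obtain ⟨x, hx⟩ := hf (Multiplicative.ofAdd (Pi.single i 1))
    have h1 : (F a) x = 1 := by rw [ha]; rfl
    have h2 : ∑ j, Multiplicative.toAdd a j * Multiplicative.toAdd (f x) j = 0 := h1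
    rw [hx] at h2
    rw [Finset.sum_eq_single i] at h2
    · simpa using h2
    · intro j _ hj
      simp [hj]
    · intro h
      exact absurd (Finset.mem_univ _) h
  -- the invariant homomorphisms
  let I : Subgroup (R →* Multiplicative (ZMod 2)) :=
    { carrier := {l | l.comp κ = l}
      one_mem' := by
        show MonoidHom.comp 1 κ = 1
        rfl
      mul_mem' := fun {l m} hl hm => by
        show (l * m).comp κ = l * m
        rw [MonoidHom.mul_comp, hl, hm]
      inv_mem' := fun {l} hl => by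
        show (l⁻¹).comp κ = l⁻¹
        rw [MonoidHom.inv_comp, hl] }
  have hsq : ∀ l : R →* Multiplicative (ZMod 2), l * l = 1 := by
    intro l
    ext x
    show l x * l x = 1
    rcases z2_cases (l x) with h | h <;> rw [h] <;> decide
  let E : A →* (R →* Multiplicative (ZMod 2)) :=
    { toFun := fun a => F a * (F a).comp κ
      map_one' := by rw [map_one]; rfl
      map_mul' := fun a b => by
        rw [map_mul, MonoidHom.mul_comp]
        exact mul_mul_mul_comm _ _ _ _ }
  have hrange : E.range ≤ I := by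
    rintro _ ⟨a, rfl⟩
    show (F a * (F a).comp κ).comp κ = F a * (F a).comp κ
    rw [MonoidHom.mul_comp, MonoidHom.comp_assoc]
    have h1 : κ.comp κ = MonoidHom.id R := MonoidHom.ext hκ
    rw [h1, MonoidHom.comp_id, mul_comm]
  have hker : E.ker.map F ≤ I := by
    rintro _ ⟨a, ha, rfl⟩
    have h1 : F a * (F a).comp κ = 1 := ha
    show (F a).comp κ = F a
    calc (F a).comp κ = (F a * F a) * (F a).comp κ := by rw [hsq, one_mul]
      _ = F a * (F a * (F a).comp κ) := mul_assoc _ _ _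
      _ = F a := by rw [h1, mul_one]
  obtain ⟨l, hl, m, hm, hl1, hm1, hlm⟩ : ∃ x ∈ I, ∃ y ∈ I, x ≠ 1 ∧ y ≠ 1 ∧ x ≠ y := by
    have h1 := E.ker.card_mul_index
    rw [Subgroup.index_ker] at h1
    have h2 : Nat.card A = 8 := by
      rw [Nat.card_eq_fintype_card]
      rfl
    rw [h2] at h1
    have h3 : Nat.card (E.ker.map F) = Nat.card E.ker := Subgroup.card_map_of_injective hF
    rcases Nat.lt_or_ge 2 (Nat.card E.ker) with h4 | h4
    · obtain ⟨x, hx, y, hy, h⟩ := exists_two (E.ker.map F) (by omega)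
      exact ⟨x, hker hx, y, hker hy, h⟩
    · have h5 : 3 ≤ Nat.card E.range := by
        by_contra h6
        have h7 : Nat.card E.ker * Nat.card E.range ≤ 2 * 2 := Nat.mul_le_mul h4 (by omega)
        omega
      obtain ⟨x, hx, y, hy, h⟩ := exists_two E.range h5
      exact ⟨x, hrange hx, y, hrange hy, h⟩
  have hl' : ∀ (x : R) (hx : c * x * c ∈ R), l ⟨c * x * c, hx⟩ = l x := fun x _ => DFunLike.congr_fun hl x
  have hm' : ∀ (x : R) (hx : c * x * c ∈ R), m ⟨c * x * c, hx⟩ = m x := fun x _ => DFunLike.congr_fun hm x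
  let g : P →* Multiplicative (Fin 3 → ZMod 2) :=
    { toFun := fun p => Multiplicative.ofAdd ![Multiplicative.toAdd (extHom hR hc hcR l hl' p),
        Multiplicative.toAdd (extHom hR hc hcR m hm' p), Multiplicative.toAdd (sgHom hR p)]
      map_one' := by
        rw [map_one (extHom hR hc hcR l hl'), map_one (extHom hR hc hcR m hm'), map_one (sgHom hR)]
        apply Multiplicative.toAdd.injective
        funext i
        fin_cases i <;> rfl
      map_mul' := fun p q => by
        rw [map_mul (extHom hR hc hcR l hl'), map_mul (extHom hR hc hcR m hm'), map_mul (sgHom hR)]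
        apply Multiplicative.toAdd.injective
        funext i
        fin_cases i <;> rfl }
  refine ⟨g, fun w => ?_⟩
  set w' : Fin 3 → ZMod 2 := Multiplicative.toAdd w with hw'
  obtain ⟨r, h1, h2⟩ := surj_two hl1 hm1 hlm (Multiplicative.ofAdd (w' 0)) (Multiplicative.ofAdd (w' 1))
  have hs1 : sgHom hR (r : P) = 1 := if_pos r.2
  have hs2 : sgHom hR c = Multiplicative.ofAdd 1 := if_neg hcR
  have hz : ∀ a : ZMod 2, a = 0 ∨ a = 1 := by decide
  rcases hz (w' 2) with h3 | h3
  · refine ⟨r, ?_⟩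
    apply Multiplicative.toAdd.injective
    funext i
    fin_cases i
    · show Multiplicative.toAdd (extHom hR hc hcR l hl' r) = w' 0
      rw [extHom_mem, h1]; rfl
    · show Multiplicative.toAdd (extHom hR hc hcR m hm' r) = w' 1
      rw [extHom_mem, h2]; rfl
    · show Multiplicative.toAdd (sgHom hR (r : P)) = w' 2
      rw [hs1, h3]; rfl
  · refine ⟨r * c, ?_⟩
    apply Multiplicative.toAdd.injective
    funext i
    fin_cases i
    · show Multiplicative.toAdd (extHom hR hc hcR l hl' (r * c)) = w' 0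
      rw [map_mul, extHom_mem, extHom_c, h1, mul_one]; rfl
    · show Multiplicative.toAdd (extHom hR hc hcR m hm' (r * c)) = w' 1
      rw [map_mul, extHom_mem, extHom_c, h2, mul_one]; rfl
    · show Multiplicative.toAdd (sgHom hR ((r : P) * c)) = w' 2
      rw [map_mul, hs1, hs2, h3, one_mul]; rfl

end ext

theorem d3_split {G : Type u} [Group G] [Finite G] (N : Subgroup G) (hN : N.index = 2) (hD : D3 N) {c : G}
    (hc : c * c = 1) (hcN : c ∉ N) : D3 G := by
  have hp : IsPGroup 2 (Subgroup.zpowers c) := by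
    rintro ⟨x, k, rfl⟩
    refine ⟨1, Subtype.ext ?_⟩
    show (c ^ k) ^ 2 ^ 1 = 1
    rw [pow_one, pow_two, ← zpow_add, ← two_mul, zpow_mul, zpow_two, hc, one_zpow]
  obtain ⟨P, hP⟩ := hp.exists_le_sylow
  have hcP : c ∈ P := hP (Subgroup.mem_zpowers c)
  let R : Subgroup P := N.subgroupOf P
  have hR : R.index = 2 := by
    have h1 : R.index ∣ 2 := by
      have hn : N.Normal := Subgroup.normal_of_index_eq_two hN
      have h0 : R.index ∣ N.index := Subgroup.relIndex_dvd_index_of_normal N (P : Subgroup G)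
      exact h0.trans (dvd_of_eq hN)
    rcases (Nat.dvd_prime Nat.prime_two).1 h1 with h2 | h2
    · exfalso
      rw [Subgroup.index_eq_one] at h2
      have h3 : (⟨c, hcP⟩ : P) ∈ R := by rw [h2]; trivial
      exact hcN h3
    · exact h2
  let e : R ≃* ((P : Subgroup G).subgroupOf N) :=
    { toFun := fun x => ⟨⟨x.1.1, x.2⟩, x.1.2⟩
      invFun := fun x => ⟨⟨x.1.1, x.2⟩, x.1.2⟩
      left_inv := fun _ => rfl
      right_inv := fun _ => rfl
      map_mul' := fun _ _ => rfl }
  have hpg : IsPGroup 2 ((P : Subgroup G).subgroupOf N) := (P.2.to_subgroup R).of_equiv e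
  have hind : ¬ 2 ∣ ((P : Subgroup G).subgroupOf N).index := by
    have h1 := ((P : Subgroup G).subgroupOf N).card_mul_index
    have h2 := R.card_mul_index
    have h3 := N.card_mul_index
    have h4 := (P : Subgroup G).card_mul_index
    rw [← Nat.card_congr e.toEquiv] at h1
    rw [hR] at h2
    rw [hN, ← h1] at h3
    rw [← h2, ← h3] at h4
    have h5 : 0 < Nat.card R := Nat.card_pos
    have h6 : (P : Subgroup G).index = ((P : Subgroup G).subgroupOf N).index := by
      have h7 : Nat.card R * 2 * (P : Subgroup G).index = Nat.card R * 2 * ((P : Subgroup G).subgroupOf N).index := by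
        rw [h4]; ring
      exact Nat.eq_of_mul_eq_mul_left (by omega) h7
    rw [← h6]
    exact P.not_dvd_index
  let Q : Sylow 2 N := hpg.toSylow hind
  obtain ⟨f, hf⟩ := hD Q
  let e' : R ≃* Q := e
  have h3 : Rk 3 P := rk_split hR ⟨f.comp e'.toMonoidHom, hf.comp e'.surjective⟩ (c := ⟨c, hcP⟩) (Subtype.ext hc) hcN
  obtain ⟨g, hg⟩ := h3
  intro P'
  let i : P' ≃* P := Sylow.equiv P' P
  exact ⟨g.comp i.toMonoidHom, hg.comp i.surjective⟩

/-! ### automorphisms -/

section row

variable {S : Type u} [Group S]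

theorem isInn_iff (τ : MulAut S) : IsInn τ ↔ τ ∈ (MulAut.conj : S →* MulAut S).range := by
  constructor
  · rintro ⟨s, hs⟩
    exact ⟨s, MulEquiv.ext fun x => (hs x).symm⟩
  · rintro ⟨s, rfl⟩
    exact ⟨s, fun _ => rfl⟩

/-- A non-inner automorphism is the product of an inner one with a given one, if `|Out S| = 2`. -/
theorem exists_inn_mul (hO : Nat.card (Cfsg.Out S) = 2) {c τ : MulAut S} (hc : ¬ IsInn c) (hτ : ¬ IsInn τ) :
    ∃ s : S, ∀ x, τ x = s * c x * s⁻¹ := by
  rw [isInn_iff] at hc hτ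
  rw [H55.OutGen.card_out_eq_index] at hO
  have h1 : τ * c⁻¹ ∈ (MulAut.conj : S →* MulAut S).range := by
    rw [Subgroup.mul_mem_iff_of_index_two hO, inv_mem_iff]
    tauto
  obtain ⟨s, hs⟩ := h1
  refine ⟨s, fun x => ?_⟩
  have h2 : τ = MulAut.conj s * c := by rw [hs]; group
  rw [h2]
  rfl

theorem GInv3.inn_mul {c τ : MulAut S} (h : GInv3 c) {s : S} (hs : ∀ x, τ x = s * c x * s⁻¹) : GInv3 τ := by
  obtain ⟨χ, h1, h2⟩ := h
  refine ⟨χ, h1, fun i => ⟨(h2 i).1, fun x => ?_⟩⟩
  rw [hs, ← (h2 i).2 x]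
  exact Cfsg.Agent.Characters.Core.isIrr_isClassFunction (h2 i).1.odd.1 _ _

/-- `D3 (AutExt τ)` in the split case -/
theorem d3_autExt [Finite S] (hZ : Subgroup.center S = ⊥) (hD : D3 S) (hO : Nat.card (Cfsg.Out S) = 2) {c τ : MulAut S}
    (hc : c * c = 1) (hcn : ¬ IsInn c) (hτ : ¬ IsInn τ) : D3 (AutExt τ) := by
  have hfin : Finite (MulAut S) := Finite.of_injective (fun f : MulAut S => (f : S → S)) DFunLike.coe_injective
  obtain ⟨s, hs⟩ := exists_inn_mul hO hcn hτ
  have hcm : c ∈ AutExt τ := by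
    have h1 : c = (MulAut.conj s)⁻¹ * τ := by
      have h2 : τ = MulAut.conj s * c := MulEquiv.ext hs
      rw [h2]
      group
    rw [h1]
    exact (AutExt τ).mul_mem ((AutExt τ).inv_mem ((le_sup_left : _ ≤ AutExt τ) ⟨s, rfl⟩))
      ((le_sup_right : _ ≤ AutExt τ) (Subgroup.mem_zpowers τ))
  let N : Subgroup (AutExt τ) := (MulAut.conj : S →* MulAut S).range.subgroupOf (AutExt τ)
  have hcN : (⟨c, hcm⟩ : AutExt τ) ∉ N := fun h => hcn ((isInn_iff c).2 h)
  have hnor : (MulAut.conj : S →* MulAut S).range.Normal := by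
    refine Subgroup.normal_of_index_eq_two ?_
    rw [← H55.OutGen.card_out_eq_index]
    exact hO
  have hN : N.index = 2 := by
    have h1 : N.index ∣ 2 := by
      rw [← hO, H55.OutGen.card_out_eq_index]
      exact Subgroup.relIndex_dvd_index_of_normal _ _
    rcases (Nat.dvd_prime Nat.prime_two).1 h1 with h2 | h2
    · exfalso
      rw [Subgroup.index_eq_one] at h2
      apply hcN
      rw [h2]
      trivial
    · exact h2
  have hinj : Function.Injective (MulAut.conj : S →* MulAut S) := by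
    rw [injective_iff_map_eq_one]
    intro x hx
    have h1 : x ∈ Subgroup.center S := by
      rw [Subgroup.mem_center_iff]
      intro g
      have h2 : x * g * x⁻¹ = g := DFunLike.congr_fun hx g
      exact (mul_inv_eq_iff_eq_mul.1 h2).symm
    rw [hZ] at h1
    exact h1
  let e₁ : S ≃* (MulAut.conj : S →* MulAut S).range := MonoidHom.ofInjective hinj
  let e₂ : N ≃* (MulAut.conj : S →* MulAut S).range :=
    Subgroup.subgroupOfEquivOfLe (le_sup_left : _ ≤ AutExt τ)
  exact d3_split N hN (d3_of_equiv (e₂.trans e₁.symm) hD) (c := ⟨c, hcm⟩) (Subtype.ext hc) hcN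

/-- **The row of a simple group with `|Out S| = 2` and a non-inner involutory automorphism.** -/
theorem row_of_involution [Finite S] (hZ : Subgroup.center S = ⊥) (h5 : H601.K4.Good5 S) (hD : D3 S)
    (hO : Nat.card (Cfsg.Out S) = 2) (c : MulAut S) (hc : c * c = 1) (hcn : ¬ IsInn c) (hG : GInv3 c) : Row S where
  base := Or.inl ⟨h5, hD⟩
  ext τ _ hτ := by
    obtain ⟨s, hs⟩ := exists_inn_mul hO hcn hτ
    exact ⟨fun _ => d3_autExt hZ hD hO hc hcn hτ, fun _ => GInv3.inn_mul hG hs⟩

end row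

section transport

variable {S : Type u} {T : Type v} [Group S] [Group T]

/-- the automorphism transported along an isomorphism -/
def tr (e : S ≃* T) (c : MulAut T) : MulAut S := (e.trans c).trans e.symm

theorem tr_apply (e : S ≃* T) (c : MulAut T) (x : S) : tr e c x = e.symm (c (e x)) := rfl

theorem tr_mul (e : S ≃* T) (c d : MulAut T) : tr e c * tr e d = tr e (c * d) := by
  ext x
  show e.symm (c (e (e.symm (d (e x))))) = e.symm (c (d (e x)))
  rw [e.apply_symm_apply]

theorem tr_one (e : S ≃* T) : tr e 1 = 1 := by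
  ext x
  exact e.symm_apply_apply x

theorem isInn_tr (e : S ≃* T) {c : MulAut T} (h : IsInn (tr e c)) : IsInn c := by
  obtain ⟨s, hs⟩ := h
  refine ⟨e s, fun x => ?_⟩
  have h1 := hs (e.symm x)
  rw [tr_apply, e.apply_symm_apply] at h1
  apply e.symm.injective
  rw [h1, map_mul, map_mul, map_inv, e.symm_apply_apply]

theorem ginv3_tr [Finite S] [Finite T] (e : S ≃* T) {c : MulAut T} (h : GInv3 c) : GInv3 (tr e c) := by
  obtain ⟨χ, h1, h2⟩ := h
  refine ⟨fun i x => χ i (e x), fun i j hij => h1 ?_, fun i => ⟨H740.K4.good_comp e (h2 i).1, fun x => ?_⟩⟩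
  · funext y
    have h3 := congrFun hij (e.symm y)
    simpa using h3
  · show χ i (e (tr e c x)) = χ i (e x)
    rw [tr_apply, e.apply_symm_apply, (h2 i).2]

end transport

end Cfsg.Agent.H832.K547
end

-- part: H832/K547/JTwo
section
/-!
# S4547, the row `J2` (helper832)

* `d3_of_model`, `d3_J2` : the Sylow 2-subgroup `2^{1+4}_- : 2^2` of the centraliser of a 2-central involution (signed
  permutation model of `KFacts/J2`): the two homomorphisms of the four-group of `A_5` and the sign of the fixed letter.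
* the odd involution `pT` of the 100 points permutes the 840 subsets (table `qT`), so the characters `63`, `175` are
  invariant under it; it is not inner. Hence `row` by `row_of_involution`.
-/

set_option autoImplicit false
set_option maxRecDepth 100000

namespace Cfsg.Agent.H832.K547

open Cfsg Cfsg.Agent.H821.K547 Cfsg.Agent.H601.K4

universe u v

/-! ### the four-group of `A₅` -/

open Equiv

/-- `(0 1)(2 3)` -/
def va : Perm (Fin 5) := swap 0 1 * swap 2 3
/-- `(0 2)(1 3)` -/
def vb : Perm (Fin 5) := swap 0 2 * swap 1 3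
/-- the elements of the four-group -/
def v4 (a b : ZMod 2) : Perm (Fin 5) := (if a = 0 then 1 else va) * (if b = 0 then 1 else vb)

theorem v4_mul : ∀ a b c d : ZMod 2, v4 a b * v4 c d = v4 (a + c) (b + d) := by decide +kernel

theorem v4_inj : ∀ a b c d : ZMod 2, v4 a b = v4 c d → a = c ∧ b = d := by decide +kernel

theorem v4_four : ∀ a b : ZMod 2, v4 a b 4 = 4 := by decide

theorem v4_sign : ∀ a b : ZMod 2, Perm.sign (v4 a b) = 1 := by decide

/-- the four-group -/
def V4 : Subgroup (Perm (Fin 5)) where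
  carrier := {σ | ∃ a b, v4 a b = σ}
  mul_mem' := by
    rintro _ _ ⟨a, b, rfl⟩ ⟨c, d, rfl⟩
    exact ⟨_, _, (v4_mul a b c d).symm⟩
  one_mem' := ⟨0, 0, by decide⟩
  inv_mem' := by
    rintro _ ⟨a, b, rfl⟩
    refine ⟨a, b, ?_⟩
    revert a b
    decide

theorem card_V4 : Nat.card V4 = 4 := by
  have e : (ZMod 2 × ZMod 2) ≃ V4 := Equiv.ofBijective (fun p => ⟨v4 p.1 p.2, p.1, p.2, rfl⟩) (by
    constructor
    · rintro ⟨a, b⟩ ⟨c, d⟩ h
      obtain ⟨h1, h2⟩ := v4_inj a b c d (congrArg Subtype.val h)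
      rw [h1, h2]
    · rintro ⟨_, a, b, rfl⟩
      exact ⟨(a, b), rfl⟩)
  rw [← Nat.card_congr e, Nat.card_prod, Nat.card_zmod]


open Cfsg.Agent.J2Type.Model

section model

variable {C : Type u} [Group C] {Q : Subgroup C} {z : C} {v : Fin 5 → C} {ρ : C →* SP}

/-- the permutation of the five letters -/
def sg (ρ : C →* SP) : C →* Perm (Fin 5) where
  toFun c := (ρ c).σ
  map_one' := by rw [map_one]; rfl
  map_mul' a b := by rw [map_mul]; rfl

theorem sg_range (M : IsModel Q z v ρ) : (sg ρ).range = alternatingGroup (Fin 5) := by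
  ext σ
  rw [MonoidHom.mem_range, Equiv.Perm.mem_alternatingGroup]
  constructor
  · rintro ⟨c, rfl⟩
    exact ((M.range (ρ c)).1 ⟨c, rfl⟩).1
  · intro h
    obtain ⟨c, hc⟩ := (M.range ⟨σ, fun _ => 0⟩).2 ⟨h, by simp⟩
    exact ⟨c, congrArg SP.σ hc⟩

theorem V4_le : V4 ≤ alternatingGroup (Fin 5) := by
  rintro _ ⟨a, b, rfl⟩
  exact Equiv.Perm.mem_alternatingGroup.2 (v4_sign a b)

/-- the Sylow 2-subgroup -/
def PC (ρ : C →* SP) : Subgroup C := V4.comap (sg ρ)

theorem index_PC (M : IsModel Q z v ρ) : (PC ρ).index = 15 := by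
  unfold PC
  rw [Subgroup.index_comap, sg_range M]
  have h1 := Subgroup.relIndex_mul_relIndex (⊥ : Subgroup (Perm (Fin 5))) V4 (alternatingGroup (Fin 5)) bot_le V4_le
  rw [Subgroup.relIndex_bot_left, Subgroup.relIndex_bot_left, card_V4] at h1
  have h2 : 2 * Nat.card (alternatingGroup (Fin 5)) = 120 := by
    rw [Nat.card_eq_fintype_card, two_mul_card_alternatingGroup, Fintype.card_perm, Fintype.card_fin]
    rfl
  omega

theorem v4_s (g h : SP) (hh : h.σ ∈ V4) : (g * h).s 4 = g.s 4 + h.s 4 := by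
  obtain ⟨a, b, hab⟩ := hh
  rw [mul_s, ← hab, v4_four, add_comm]

/-- `α` on the four-group -/
def al (σ : Perm (Fin 5)) : ZMod 2 := if σ 0 = 1 ∨ σ 0 = 3 then 1 else 0
/-- `β` on the four-group -/
def be (σ : Perm (Fin 5)) : ZMod 2 := if σ 0 = 2 ∨ σ 0 = 3 then 1 else 0

theorem al_v4 : ∀ a b : ZMod 2, al (v4 a b) = a := by decide
theorem be_v4 : ∀ a b : ZMod 2, be (v4 a b) = b := by decide

/-- the homomorphism onto `C_2 ^ 3` -/
def f3 (ρ : C →* SP) : PC ρ →* Multiplicative (Fin 3 → ZMod 2) where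
  toFun c := Multiplicative.ofAdd ![al (ρ c).σ, be (ρ c).σ, (ρ c).s 4]
  map_one' := by
    have h : ρ ((1 : PC ρ) : C) = 1 := map_one ρ
    rw [h, one_σ, one_s]
    have e1 : al 1 = 0 := al_v4 0 0
    have e2 : be 1 = 0 := be_v4 0 0
    rw [e1, e2]
    apply Multiplicative.toAdd.injective
    funext i
    fin_cases i <;> rfl
  map_mul' := by
    rintro ⟨c, a, b, hab⟩ ⟨d, a', b', hab'⟩
    have h : ρ (((⟨c, a, b, hab⟩ : PC ρ) * ⟨d, a', b', hab'⟩ : PC ρ) : C) = ρ c * ρ d := map_mul ρ c d
    have hc : (ρ c).σ = v4 a b := hab.symm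
    have hd : (ρ d).σ = v4 a' b' := hab'.symm
    rw [h, mul_σ, v4_s _ _ ⟨a', b', hab'⟩, hc, hd, v4_mul, al_v4, be_v4]
    show Multiplicative.ofAdd _ = Multiplicative.ofAdd ![al (v4 a b), be (v4 a b), (ρ c).s 4] *
      Multiplicative.ofAdd ![al (v4 a' b'), be (v4 a' b'), (ρ d).s 4]
    rw [al_v4, be_v4, al_v4, be_v4, ← ofAdd_add]
    congr 1
    funext i
    fin_cases i <;> rfl

theorem f3_surj (M : IsModel Q z v ρ) : Function.Surjective (f3 ρ) := by
  intro y
  set w : Fin 3 → ZMod 2 := Multiplicative.toAdd y with hw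
  obtain ⟨c, hc⟩ := (M.range ⟨v4 (w 0) (w 1), fun i => if i = 4 ∨ i = 0 then w 2 else 0⟩).2 ⟨v4_sign _ _, by
    rw [Fin.sum_univ_five]
    simp only [_root_.Fin.isValue, _root_.Fin.reduceEq, _root_.or_true, ↓ _root_.reduceIte, _root_.one_ne_zero, _root_.or_self, _root_.add_zero, _root_.or_false]
    exact CharTwo.add_self_eq_zero _⟩
  have hcσ : (ρ c).σ = v4 (w 0) (w 1) := congrArg SP.σ hc
  have hcs : (ρ c).s 4 = w 2 := by
    rw [hc]
    simp
  refine ⟨⟨c, w 0, w 1, hcσ.symm⟩, ?_⟩
  show Multiplicative.ofAdd ![al (ρ c).σ, be (ρ c).σ, (ρ c).s 4] = y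
  rw [hcσ, al_v4, be_v4, hcs]
  apply Multiplicative.toAdd.injective
  funext i
  fin_cases i <;> rfl

end model

/-- `D3` from the signed permutation model of the centraliser of an involution. -/
theorem d3_of_model {X : Type u} [Group X] [Finite X] {C : Subgroup X} {Q : Subgroup C} {z : C} {v : Fin 5 → C} {ρ : C →* SP}
    (M : IsModel Q z v ρ) (hC : Nat.card C = 1920) (hX : ¬ 2 ^ 8 ∣ Nat.card X) : D3 X := by
  have h1 := (PC ρ).card_mul_index
  rw [index_PC M, hC] at h1
  have h2 : Nat.card (PC ρ) = 128 := by omega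
  let e : PC ρ ≃* (PC ρ).map C.subtype := (PC ρ).equivMapOfInjective C.subtype C.subtype_injective
  refine d3_of_sub ((PC ρ).map C.subtype) (k := 7) ?_ hX ((f3 ρ).comp e.symm.toMonoidHom)
    ((f3_surj M).comp e.symm.surjective)
  rw [← Nat.card_congr e.toEquiv, h2]
  norm_num

end Cfsg.Agent.H832.K547

namespace Cfsg.Agent.H832.K547.JTwo

open Cfsg Cfsg.Agent.H821.K547 Cfsg.Agent.H601.K4 Equiv
open Cfsg.Agent.SporadicA.PermTab Cfsg.Agent.SporadicA.J2Data Cfsg.Agent.SporadicA.J2Hundred
open Cfsg.Agent.H300.K4.JTwoData Cfsg.Agent.H300.K4.JTwoDeg Cfsg.Agent.H678.DG.Blk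

universe u

/-- the action of the odd involution `pT` on the 840 subsets -/
def qT : ℕ := 0x41e80d06a013ea7ccfd1f23d2a59672905da9ad7da0b3fe7f51a2dd3f6935801f045a8211f2183da94d8524943ea297c2205408c13e1e03dc788f3a3854c824f89f84a2c1d21aae3ecae12f2d23d6a4d23a1e3ccca53a9e362c96d332db3f2af8f43314fe8d9549ea672aacf2b25550819309fe512b1125a695807b19da7e4d8a3d4aa635b0829612604c4a2d2324c4e07bd9a28260886d422e7432a0532a6d530c410125d3eecf5512505668ed5826e538a495d2f244eb954caef44ac092c2864e2b15073124d49bd4da74596a752b2c9534c510b2775f481d7eaf740ac6d3ca9e4e4b34fa3234b4a91592c756aabd60ad3518cf974a2261cb190a33c5d489142a975c4c9979a2c4f6af146ad9426b716b2115febb10032150e87152a2f5587f184ab4466a8d5dadf56cb216a2eb674add7822b3c2c156a9e45d0b8d7aae442ac456820c60ca7d142bd478ac51920465485d8bacc484875992e05e28a99423d61ab851fa1262a93d1723a48acb5242575949010831c446bf90d3354e695514b224f090597a884d092918a595868855fa8e46ea511332464ec312727a5b48d56bb2c4a4ab52fa915069114023968eae5a2a5c670b998d32e554bd953a5468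cb45a227d66ebd19b276666d0581b1859ec4da1aa1684d018cb305bcc7d95aee61ebf19fb0163ac2d7ca64610c7933b2026a4fcd81992826ac9e12e38c550d69d42e456cbc1302a2738e69bb2f44b4e492c27675cd712f32e4c8b395c26263ca197c3986a89b93a2aa4f49c18728a5249a1dd358714ea9af3b46e89b18e2f65acb41692844cca6159294518b995827c558ee160386500ae95229a540bc96d37c6a0a71572906149c988368510c51622be52cba9652c6598b89bc34e72cc89d128e5d8c096e33a74cbe9532c85d0c814f34c578d21a53825f8c016f2fe610ad1983065a8ca9c03a4584d019c318668db9d62e0650e79922d8634c99a130467cd918b2ee678d998637a68ced9963bc66cdb1d938e6e0c49b53726a4ef9b1344708df9d0388760e51c81124404c91e1484702103f0882889012116e4a0531261842684504b07c1948a8a30784487e92a1861d42f0fa0803d0388771be0f45288e2061e8808620a23f88884f1f6430460e608a3887810a0e41d03e0f50dc2004b088160190380a91203e0648c50983d87087d20e2f8218dc11a368268ae1822546a84a0f61645905719e21c588411881207284918e118720cb21e46c6b89408e3782d0500d21543185623e1483086b0a8344668eb0a63602c0810de1a87406d106474829272284883305d0b819c4884e0f04689485f1163b46b0c00d01f84e8e71084106d8f912e464958ec19c16c3c88f14e180560ee0e6248700f11a64084289b2101b0870f20fe3cc848e91563bc540761682a85d89313c2848b0ea1724005a8821304345009f10c2f4690ad1a02e05d0b315e2d87f8bc1f82706c8e3230350640ca17e3187b9231ba4946610b24845c8311304a0d01882405e0c81683a0600d81c83306e0981a82a0500b01382b0520b81d83802a0881081802c05c0d0190360740e02003c07c1180a00404006812010014088010160500480f00e0180700400604c06000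

theorem cT : chkPQ 100 840 _root_.Cfsg.Agent.H300.K4.JTwoDeg.mk (tT, qT) = true := by decide +kernel

/-- the odd involution in the full symmetric group -/
noncomputable def pt : (⊤ : Subgroup (Perm (Fin 100))) := ⟨pT, trivial⟩

theorem pt_F (x : ℕ) (hx : x < 840) : lk qT x < 840 ∧ pt • Fm 100 _root_.Cfsg.Agent.H300.K4.JTwoDeg.mk x = Fm 100 _root_.Cfsg.Agent.H300.K4.JTwoDeg.mk (lk qT x) :=
  cor_of_chkPQ cT pt (fun i => mkPerm_val tT tT iT i) x hx

theorem F_inj : ∀ x < 840, ∀ y < 840, Fm 100 _root_.Cfsg.Agent.H300.K4.JTwoDeg.mk x = Fm 100 _root_.Cfsg.Agent.H300.K4.JTwoDeg.mk y → x = y := fun x hx y hy h =>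
  inj_of_chk (N := 100) _root_.Cfsg.Agent.H300.K4.JTwoDeg.c2 x hx y hy h

/-- the permutation of the indices -/
noncomputable def qp : Fin 840 ≃ Fin 840 :=
  Equiv.ofBijective (fun i => ⟨lk qT i, (pt_F i i.2).1⟩) (Finite.injective_iff_bijective.1 (by
    intro i j h
    have h1 : lk qT i = lk qT j := congrArg Fin.val h
    have h2 : pt • Fm 100 _root_.Cfsg.Agent.H300.K4.JTwoDeg.mk i = pt • Fm 100 _root_.Cfsg.Agent.H300.K4.JTwoDeg.mk j := by rw [(pt_F i i.2).2, (pt_F j j.2).2, h1]
    exact Fin.ext (F_inj i i.2 j j.2 (smul_left_cancel _ h2))))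

theorem qp_F (i : Fin 840) : Fm 100 _root_.Cfsg.Agent.H300.K4.JTwoDeg.mk (qp i) = pt • Fm 100 _root_.Cfsg.Agent.H300.K4.JTwoDeg.mk i := ((pt_F i i.2).2).symm

/-- The sum is invariant under `pT`. -/
theorem sum_inv (om : ℕ → ℚ) (g h : G) (hgh : (h : Perm (Fin 100)) = pT * g * pT⁻¹) :
    ∑ i : Fin 840, om (isz (Fm 100 _root_.Cfsg.Agent.H300.K4.JTwoDeg.mk i) (h⁻¹ • Fm 100 _root_.Cfsg.Agent.H300.K4.JTwoDeg.mk i)) =
      ∑ i : Fin 840, om (isz (Fm 100 _root_.Cfsg.Agent.H300.K4.JTwoDeg.mk i) (g⁻¹ • Fm 100 _root_.Cfsg.Agent.H300.K4.JTwoDeg.mk i)) := by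
  rw [← Equiv.sum_comp qp]
  refine Finset.sum_congr rfl fun i _ => ?_
  rw [qp_F]
  have h1 : h⁻¹ • (pt • Fm 100 _root_.Cfsg.Agent.H300.K4.JTwoDeg.mk i) = pt • (g⁻¹ • Fm 100 _root_.Cfsg.Agent.H300.K4.JTwoDeg.mk i) := by
    funext j
    show Fm 100 _root_.Cfsg.Agent.H300.K4.JTwoDeg.mk i ((pT : Perm (Fin 100))⁻¹ (((h⁻¹ : G) : Perm (Fin 100))⁻¹ j)) =
      Fm 100 _root_.Cfsg.Agent.H300.K4.JTwoDeg.mk i (((g⁻¹ : G) : Perm (Fin 100))⁻¹ ((pT : Perm (Fin 100))⁻¹ j))
    rw [Subgroup.coe_inv, Subgroup.coe_inv, inv_inv, inv_inv, hgh]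
    simp [Perm.mul_apply]
  rw [h1, isz_smul]

/-! ### the outer automorphism -/

theorem mem_G_iff (g : Perm (Fin 100)) : g ∈ G ↔ g ∈ autG 100 adj ∧ Perm.sign g = 1 := by
  have hle : G ≤ autG 100 adj ⊓ (Perm.sign : Perm (Fin 100) →* ℤˣ).ker := le_inf aut_le fun x hx => sign_G x hx
  have h1 := two_mul_card_le (G := autG 100 adj ⊓ (Perm.sign : Perm (Fin 100) →* ℤˣ).ker) inf_le_left
    (fun x hx => hx.2) pT_mem sign_T
  have h2 := card_aut_le
  have h3 := card_G
  have heq := Subgroup.eq_of_le_of_card_ge hle (by omega)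
  constructor
  · intro h
    exact hle h
  · intro h
    rw [heq]
    exact h

theorem conj_mem {x : Perm (Fin 100)} (hx : x ∈ G) : pT * x * pT⁻¹ ∈ G := by
  obtain ⟨h1, h2⟩ := (mem_G_iff x).1 hx
  refine (mem_G_iff _).2 ⟨(autG 100 adj).mul_mem ((autG 100 adj).mul_mem pT_mem h1) ((autG 100 adj).inv_mem pT_mem), ?_⟩
  rw [Perm.sign_mul, Perm.sign_mul, Perm.sign_inv, h2, sign_T]
  decide

theorem pT_sq : pT * pT = 1 := by
  ext i
  exact (chkInv_spec iT i).2.2.1

theorem pT_inv : pT⁻¹ = pT := inv_eq_of_mul_eq_one_right pT_sq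

/-- conjugation by `pT` -/
noncomputable def τ₀ : MulAut G where
  toFun x := ⟨pT * x * pT⁻¹, conj_mem x.2⟩
  invFun x := ⟨pT * x * pT⁻¹, conj_mem x.2⟩
  left_inv x := by
    apply Subtype.ext
    show pT * (pT * (x : Perm (Fin 100)) * pT⁻¹) * pT⁻¹ = x
    rw [pT_inv]
    calc pT * (pT * (x : Perm (Fin 100)) * pT) * pT = (pT * pT) * x * (pT * pT) := by group
      _ = x := by rw [pT_sq, one_mul, mul_one]
  right_inv x := by
    apply Subtype.ext
    show pT * (pT * (x : Perm (Fin 100)) * pT⁻¹) * pT⁻¹ = x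
    rw [pT_inv]
    calc pT * (pT * (x : Perm (Fin 100)) * pT) * pT = (pT * pT) * x * (pT * pT) := by group
      _ = x := by rw [pT_sq, one_mul, mul_one]
  map_mul' x y := by
    apply Subtype.ext
    show pT * ((x : Perm (Fin 100)) * y) * pT⁻¹ = pT * (x : Perm (Fin 100)) * pT⁻¹ * (pT * (y : Perm (Fin 100)) * pT⁻¹)
    group

theorem τ₀_coe (x : G) : ((τ₀ x : G) : Perm (Fin 100)) = pT * x * pT⁻¹ := rfl

theorem fix_zero : allB (fun v => bor (Nat.beq v 0) (bor (nbeq (lk u0 v) v) (nbeq (lk u1 v) v))) 100 = true := by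
  decide +kernel

theorem not_inn : ¬ IsInn τ₀ := by
  rintro ⟨s, hs⟩
  set c : Perm (Fin 100) := (s : Perm (Fin 100))⁻¹ * pT with hc
  have hcomm : ∀ x ∈ G, c * x = x * c := by
    intro x hx
    have h1 : pT * x * pT⁻¹ = s * x * (s : Perm (Fin 100))⁻¹ := congrArg Subtype.val (hs ⟨x, hx⟩)
    calc c * x = (s : Perm (Fin 100))⁻¹ * (pT * x * pT⁻¹) * pT := by rw [hc]; group
      _ = (s : Perm (Fin 100))⁻¹ * (s * x * (s : Perm (Fin 100))⁻¹) * pT := by rw [h1]
      _ = x * c := by rw [hc]; group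
  have hfix : ∀ {P : ℕ}, InG (ps G x0) P → lk P (c x0 : Fin 100) = (c x0 : Fin 100) := by
    rintro P ⟨x, hx, hP⟩
    have hxG : x ∈ G := hx.1
    have hx0 : x x0 = x0 := hx.2
    have h2 := congrArg (fun f : Perm (Fin 100) => f x0) (hcomm x hxG)
    have h3 : c (x x0) = x (c x0) := h2
    rw [hx0] at h3
    rw [← hP, ← h3]
  have hc0 : c x0 = x0 := by
    have h := (allB_iff _ _).1 fix_zero (c x0) (c x0).2
    rw [bor_iff, bor_iff] at h
    rcases h with h | h | h
    · exact Fin.ext (Nat.eq_of_beq_eq_true h)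
    · exact absurd (hfix psu0) ((nbeq_iff _ _).1 h)
    · exact absurd (hfix psu1) ((nbeq_iff _ _).1 h)
  have hc1 : c = 1 := by
    ext v
    obtain ⟨g, hg, rfl⟩ := _root_.Cfsg.Agent.SporadicA.J2Hundred.trans v
    have h2 : c (g x0) = g (c x0) := congrArg (fun f : Perm (Fin 100) => f x0) (hcomm g hg)
    rw [h2, hc0]
    rfl
  have h4 : pT = s := by
    have h5 : (s : Perm (Fin 100)) * c = pT := by rw [hc]; group
    rw [← h5, hc1, mul_one]
  have h6 := sign_T
  rw [h4, sign_G s s.2] at h6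
  revert h6
  decide

/-! ### invariant characters -/

theorem exists_inv (a : Fin 7 → ℚ) (t : ℚ) (L : Fin 7 → Fin 7 → ℚ) (d : ℕ)
    (ha : a 0 = 1) (hBa : ∀ i : Fin 7, ∑ j : Fin 7, (B i j : ℚ) * a j = t * a i)
    (hL : ∀ i j : Fin 7, ∑ l : Fin 7, L i l * ((B l j : ℚ) - if l = j then t else 0) =
      (if i = j then 1 else 0) - if j = 0 then a i else 0)
    (hd : (d : ℚ) * ∑ j : Fin 7, (kk j : ℚ) * (a j * a j) = (840 : ℕ)) (hodd : Odd d) :
    ∃ χ : G → ℂ, Good χ ∧ χ 1 = d ∧ ∀ g : G, χ (τ₀ g) = χ g := by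
  obtain ⟨χ, h1, h2, h3⟩ := char a t L d ha hBa hL hd
  refine ⟨χ, H740.K4.good_of_rat h1 (fun g => ⟨_, h3 g⟩) ?_, h2, fun g => ?_⟩
  · rwa [Cfsg.Agent.Blocks.Basic.charDegree_of_eq h2]
  · rw [h3, h3, sum_inv (om a) g (τ₀ g) (τ₀_coe g)]

theorem exists_63' : ∃ χ : G → ℂ, Good χ ∧ χ 1 = (63 : ℕ) ∧ ∀ g : G, χ (τ₀ g) = χ g :=
  exists_inv a63 5 ![![0, 0, 0, 0, 0, 0, 0], ![-3/40, 1/2, -7/8, 0, 2, -3/2, 0], ![1/15, 0, 0, 0, 0, 0, 0],
    ![1/80, -1/4, 5/16, -1/5, -1/2, 3/4, 0], ![-1/80, 1/6, -7/48, 0, 1/3, -1/4, 0], ![1/60, 0, 1/12, 0, 0, 0, 0],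
    ![1/240, -1/12, 5/48, 0, -1/6, 1/4, 0]] 63 (by decide +kernel) (by decide +kernel) (by decide +kernel)
    (by decide +kernel) (by decide)

theorem exists_175' : ∃ χ : G → ℂ, Good χ ∧ χ 1 = (175 : ℕ) ∧ ∀ g : G, χ (τ₀ g) = χ g :=
  exists_inv ![1, 1/10, -1/5, -1/4, -1/20, 0, 1/20] (-3) ![![0, 0, 0, 0, 0, 0, 0],
    ![-7/360, 5/18, -1/24, 0, -2/3, 1/2, 0], ![1/15, 0, 0, 0, 0, 0, 0], ![-1/48, -5/36, 5/16, 1/3, 5/6, -5/4, 0],
    ![7/720, -1/18, 1/48, 0, 1/3, -1/4, 0], ![-1/36, 0, 1/12, 0, 0, 0, 0], ![1/240, 1/36, -1/16, 0, -1/6, 1/4, 0]] 175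
    (by decide +kernel) (by decide +kernel) (by decide +kernel) (by decide +kernel) (by decide)

theorem ginv3 {τ : MulAut G} {s : G} (hs : ∀ x, τ x = s * τ₀ x * s⁻¹) : GInv3 τ := by
  obtain ⟨a, ha, ha1, ha2⟩ := exists_63'
  obtain ⟨b, hb, hb1, hb2⟩ := exists_175'
  have key : ∀ {χ : G → ℂ}, Good χ → (∀ g, χ (τ₀ g) = χ g) → ∀ x, χ (τ x) = χ x := by
    intro χ h1 h2 x
    rw [hs, ← h2 x]
    exact Cfsg.Agent.Characters.Core.isIrr_isClassFunction h1.odd.1 _ _
  refine ⟨![fun _ => 1, a, b], ?_, ?_⟩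
  · have hdeg : ∀ i : Fin 3, (![fun _ => 1, a, b] : Fin 3 → G → ℂ) i 1 = ((![1, 63, 175] : Fin 3 → ℕ) i : ℂ) := by
      intro i
      fin_cases i
      · simp
      · exact ha1
      · exact hb1
    intro i j hij
    have h1 : ((![1, 63, 175] : Fin 3 → ℕ) i : ℂ) = ((![1, 63, 175] : Fin 3 → ℕ) j : ℂ) := by
      rw [← hdeg, ← hdeg, hij]
    have h2 : (![1, 63, 175] : Fin 3 → ℕ) i = (![1, 63, 175] : Fin 3 → ℕ) j := by exact_mod_cast h1
    revert h2
    fin_cases i <;> fin_cases j <;> simp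
  · intro i
    fin_cases i
    · exact ⟨H740.K4.good_one', fun _ => rfl⟩
    · exact ⟨ha, key ha ha2⟩
    · exact ⟨hb, key hb hb2⟩

theorem τ₀_sq : τ₀ * τ₀ = 1 := by
  apply MulEquiv.ext
  intro x
  exact τ₀.left_inv x

theorem ginv3_τ₀ : GInv3 τ₀ := ginv3 (s := 1) fun x => by rw [one_mul, inv_one, mul_one]

theorem d3_J2 : D3 Cfsg.Spor.J2 := by
  obtain ⟨t, u, Q, v, ρ, D⟩ := Cfsg.Agent.KFacts.J2.Basic.exists_dat
  have hc : Nat.card Cfsg.Spor.J2 = 604800 := Cfsg.Agent.H300.K4.JTwo.card_J2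
  have hfin : Finite Cfsg.Spor.J2 := Nat.finite_of_card_ne_zero (by rw [hc]; norm_num)
  exact d3_of_model D.M D.F.cardC (by rw [hc]; norm_num)

/-- **The row `J2` of S4547.** -/
theorem row {S : Type u} [Group S] (h : Spor.IsoJ2 S) : Row S := by
  have hc : Nat.card Cfsg.Spor.J2 = 604800 := Cfsg.Agent.H300.K4.JTwo.card_J2
  have hfinJ : Finite Cfsg.Spor.J2 := Nat.finite_of_card_ne_zero (by rw [hc]; norm_num)
  obtain ⟨f⟩ := J2.HundredGens.J2_iso hc
  obtain ⟨e⟩ := id h
  have hfin : Finite S := Finite.of_equiv _ (e.trans f).symm.toEquiv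
  have hO : Nat.card (Cfsg.Out S) = 2 := by
    rw [H55.OutGen.card_out_congr e]
    exact S2066.result
  have hsG : IsSimpleGroup G := simple
  have hnaG : ¬ IsMulCommutative G := by
    intro hcomm
    let _ : CommGroup G := { (inferInstance : Group G) with mul_comm := hcomm.is_comm.comm }
    have h1 : (Nat.card G).Prime := IsSimpleGroup.prime_card (α := G)
    rw [card_G] at h1
    revert h1
    norm_num
  have hZ : Subgroup.center S = ⊥ := by
    have hs : IsSimpleGroup S := (e.trans f).isSimpleGroup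
    rcases (inferInstance : (Subgroup.center S).Normal).eq_bot_or_eq_top with h1 | h1
    · exact h1
    · exfalso
      apply hnaG
      refine ⟨⟨fun x y => ?_⟩⟩
      have h2 : (e.trans f).symm x ∈ Subgroup.center S := by rw [h1]; trivial
      have h3 := (Subgroup.mem_center_iff.1 h2) ((e.trans f).symm y)
      apply (e.trans f).symm.injective
      rw [map_mul, map_mul]
      exact h3.symm
  refine row_of_involution hZ (H300.K4.JTwo.good5 h) (d3_of_equiv e d3_J2) hO (tr (e.trans f) τ₀) ?_ ?_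
    (ginv3_tr (e.trans f) ginv3_τ₀)
  · rw [tr_mul, τ₀_sq, tr_one]
  · exact fun h1 => not_inn (isInn_tr _ h1)

end Cfsg.Agent.H832.K547.JTwo
end

-- part: H189/K547/Ext
section
/-!
# S4547: extensions of degree two, from invariant homomorphisms (helper189)

`d3_autExt_two` : `S` simple, `τ` outer, `τ²` inner, every Sylow 2-subgroup `P` of `S` with `α P = P`, `α ∈ AutExt τ`, has an
`α`-invariant homomorphism onto the four-group ⟹ `D3 (AutExt τ)` (the transfer lemma of helper845).
-/

set_option autoImplicit false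
set_option linter.unusedSectionVars false

namespace Cfsg.Agent.H189.K547.Ext

open Cfsg Cfsg.Agent.H821.K547 Cfsg.Agent.H845.K547
open scoped commutatorElement

universe u v

/-- two invariant linearly independent homomorphisms of the subgroup of index two -/
theorem rk_of_two {G : Type u} [Group G] [Finite G] {N : Subgroup G} (hN : N.Normal) (h2 : N.index = 2)
    (hc : N ≤ commutator G) (P : Sylow 2 G)
    (h : ∀ t : P, (t : G) ∉ N → ∃ f : (N.subgroupOf (P : Subgroup G)) →* Multiplicative (Fin 2 → ZMod 2),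
      Function.Surjective f ∧ ∀ q q' : N.subgroupOf (P : Subgroup G), (q' : P) = t * q * t⁻¹ → f q' = f q) : Rk 3 P := by
  classical
  have : Fact (Nat.Prime 2) := ⟨Nat.prime_two⟩
  have hPi : Odd (P : Subgroup G).index := by
    rw [← Nat.not_even_iff_odd]
    intro h1
    exact P.not_dvd_index h1.two_dvd
  -- `P ⊄ N`
  obtain ⟨t₀, ht₀P, ht₀⟩ : ∃ t ∈ (P : Subgroup G), t ∉ N := by
    by_contra hcon
    push Not at hcon
    have h1 : (P : Subgroup G) ≤ N := hcon
    have h3 := Subgroup.index_dvd_of_le h1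
    rw [h2] at h3
    exact P.not_dvd_index h3
  let t : P := ⟨t₀, ht₀P⟩
  let Q : Subgroup P := N.subgroupOf P
  have hQ : Q.index = 2 := by
    have h1 : N.relIndex (P : Subgroup G) ∣ N.index := Subgroup.relIndex_dvd_index_of_normal N P
    rw [h2, Nat.dvd_prime Nat.prime_two] at h1
    rcases h1 with h1 | h1
    · exact absurd (Subgroup.relIndex_eq_one.1 h1 ht₀P) ht₀
    · exact h1
  obtain ⟨f, hf, hft⟩ := h t ht₀
  let m : Fin 2 → W Q := fun i =>
    { toFun := fun x => Multiplicative.toAdd (f (Additive.toMul x)) i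
      map_zero' := by
        show Multiplicative.toAdd (f 1) i = 0
        rw [map_one]; rfl
      map_add' := fun x y => by
        show Multiplicative.toAdd (f (Additive.toMul x * Additive.toMul y)) i = _
        rw [map_mul]; rfl }
  have hm : LinearIndependent (ZMod 2) m := by
    rw [Fintype.linearIndependent_iff]
    intro c hc i
    obtain ⟨x, hx⟩ := hf (Multiplicative.ofAdd (Pi.single i 1))
    have h1 := congrArg (fun g : W Q => g (Additive.ofMul x)) hc
    simp only [AddMonoidHom.finsetSum_apply, AddMonoidHom.smul_apply, AddMonoidHom.zero_apply] at h1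
    rw [Finset.sum_eq_single i] at h1
    · have h2 : c i • Multiplicative.toAdd (f x) i = 0 := h1
      rw [hx, toAdd_ofAdd, Pi.single_eq_same, smul_eq_mul, mul_one] at h2
      exact h2
    · intro j _ hj
      show c j • Multiplicative.toAdd (f x) j = 0
      rw [hx, toAdd_ofAdd, Pi.single_eq_of_ne hj, smul_zero]
    · intro h2
      exact absurd (Finset.mem_univ i) h2
  have hm' : ∀ i, ∀ q : Q, ∀ q' : Q, (q' : P) = t * q * t⁻¹ → m i (Additive.ofMul q') = m i (Additive.ofMul q) := by
    intro i q q' hq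
    show Multiplicative.toAdd (f q') i = Multiplicative.toAdd (f q) i
    rw [hft q q' hq]
  have hz : ∀ i, ∀ h : t * t ∈ Q, m i (Additive.ofMul ⟨t * t, h⟩) = 0 := fun i h =>
    apply_sq_eq_zero hN h2 hc hPi ht₀ hQ (m i) (hm' i) h
  let E : Fin 2 → W P := fun i => extA hQ (t := t) ht₀ (m i) (hm' i) (AddMonoidHom.id _) 0 (fun h => by
    rw [hz i h]; rfl)
  let l' : Fin 3 → W P := ![E 0, E 1, chi Q hQ]
  refine rk_of_li (l := l') ?_
  rw [Fintype.linearIndependent_iff]
  intro c hc
  have hval : ∀ x : P, c 0 * E 0 (Additive.ofMul x) + c 1 * E 1 (Additive.ofMul x) + c 2 * chi Q hQ (Additive.ofMul x) = 0 := by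
    intro x
    have h1 := congrArg (fun f : W P => f (Additive.ofMul x)) hc
    rw [Fin.sum_univ_three] at h1
    exact h1
  have h01 : ∀ i, c (Fin.castSucc i) = 0 := by
    refine Fintype.linearIndependent_iff.1 hm (fun i => c (Fin.castSucc i)) ?_
    refine AddMonoidHom.ext fun q => ?_
    have h1 := hval ((Additive.toMul q : Q) : P)
    have e0 : ∀ i, E i (Additive.ofMul ((Additive.toMul q : Q) : P)) = m i q := by
      intro i
      exact dif_pos (Additive.toMul q : Q).2
    have e2 : chi Q hQ (Additive.ofMul ((Additive.toMul q : Q) : P)) = 0 := if_pos (Additive.toMul q : Q).2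
    rw [e0, e0, e2, mul_zero, add_zero] at h1
    rw [Fin.sum_univ_two]
    exact h1
  have h0 : c 0 = 0 := h01 0
  have h1 : c 1 = 0 := h01 1
  have h3 : c 2 = 0 := by
    have h4 := hval t
    have e2 : chi Q hQ (Additive.ofMul t) = 1 := if_neg ht₀
    rw [h0, h1, e2, zero_mul, zero_mul, mul_one, zero_add, zero_add] at h4
    exact h4
  intro i
  fin_cases i
  · exact h0
  · exact h1
  · exact h3

/-- **outer automorphisms of degree two** -/
theorem d3_autExt_two {S : Type u} [Group S] [Finite S] [IsSimpleGroup S] (hna : ¬ IsMulCommutative S)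
    {τ : MulAut S} (hτ : ∃ s : S, ∀ x, (τ ^ 2) x = s * x * s⁻¹) (hni : ¬ IsInn τ)
    (hf : ∀ (P : Sylow 2 S) (α : MulAut S), α ∈ AutExt τ → (P : Subgroup S).map α.toMonoidHom = P →
      ∃ f : P →* Multiplicative (Fin 2 → ZMod 2), Function.Surjective f ∧ ∀ x y : P, (y : S) = α x → f y = f x) :
    D3 (AutExt τ) := by
  have hp : Fact (Nat.Prime 2) := ⟨Nat.prime_two⟩
  have hfin : Finite (MulAut S) := Finite.of_injective (fun f : MulAut S => (f : S → S)) DFunLike.coe_injective
  have hzc : Subgroup.center S = ⊥ := by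
    rcases Subgroup.Normal.eq_bot_or_eq_top (H := Subgroup.center S) inferInstance with h1 | h1
    · exact h1
    · exfalso
      exact hna ⟨⟨fun a b => (Subgroup.mem_center_iff.1 (h1 ▸ Subgroup.mem_top b : b ∈ Subgroup.center S) a)⟩⟩
  have hcomm : commutator S = ⊤ := by
    rcases Subgroup.Normal.eq_bot_or_eq_top (H := commutator S) inferInstance with h1 | h1
    · exfalso
      refine hna ⟨⟨fun a b => ?_⟩⟩
      have h2 : ⁅a, b⁆ ∈ commutator S := Subgroup.commutator_mem_commutator (Subgroup.mem_top a) (Subgroup.mem_top b)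
      rw [h1, Subgroup.mem_bot] at h2
      exact commutatorElement_eq_one_iff_mul_comm.1 h2
    · exact h1
  have hinj : Function.Injective (MulAut.conj : S →* MulAut S) := by
    rw [injective_iff_map_eq_one]
    intro g hg
    have h1 : g ∈ Subgroup.center S := by
      rw [Subgroup.mem_center_iff]
      intro k
      have h2 := congrArg (fun f : MulAut S => f k) hg
      simp only [MulAut.conj_apply, MulAut.one_apply] at h2
      exact (mul_inv_eq_iff_eq_mul.1 h2).symm
    rwa [hzc, Subgroup.mem_bot] at h1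
  have hconj : ∀ (β : MulAut S) (k : S), β * MulAut.conj k * β⁻¹ = MulAut.conj (β k) := by
    intro β k
    ext x
    show β (k * β⁻¹ x * k⁻¹) = β k * x * (β k)⁻¹
    rw [map_mul, map_mul, map_inv, MulAut.apply_inv_self]
  have hnorm : ((MulAut.conj : S →* MulAut S).range).Normal := by
    refine ⟨?_⟩
    rintro _ ⟨k, rfl⟩ β
    exact ⟨β k, (hconj β k).symm⟩
  have hle : (MulAut.conj : S →* MulAut S).range ≤ AutExt τ := le_sup_left
  have hτm : τ ∈ AutExt τ := (le_sup_right : Subgroup.zpowers τ ≤ AutExt τ) (Subgroup.mem_zpowers τ)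
  have hτ2 : τ * τ ∈ (MulAut.conj : S →* MulAut S).range := by
    obtain ⟨s, hs⟩ := hτ
    refine ⟨s, ?_⟩
    ext x
    rw [← pow_two]
    exact (hs x).symm
  have hτ1 : τ ∉ (MulAut.conj : S →* MulAut S).range := by
    rintro ⟨s, hs⟩
    exact hni ⟨s, fun x => by rw [← hs]; rfl⟩
  let N : Subgroup (AutExt τ) := (MulAut.conj : S →* MulAut S).range.subgroupOf (AutExt τ)
  have hN : N.Normal := inferInstance
  -- every element of the extension
  have hall : ∀ x ∈ AutExt τ, x ∈ (MulAut.conj : S →* MulAut S).range ∨ x * τ ∈ (MulAut.conj : S →* MulAut S).range := by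
    intro x hx
    obtain ⟨n, hn, y, hy, rfl⟩ := Subgroup.mem_sup_of_normal_left.1 hx
    obtain ⟨k, rfl⟩ := Subgroup.mem_zpowers_iff.1 hy
    rcases Int.even_or_odd' k with ⟨j, rfl | rfl⟩
    · left
      refine Subgroup.mul_mem _ hn ?_
      rw [zpow_mul]
      exact Subgroup.zpow_mem _ (by rw [zpow_two]; exact hτ2) j
    · right
      rw [mul_assoc]
      refine Subgroup.mul_mem _ hn ?_
      rw [← zpow_add_one, show 2 * j + 1 + 1 = 2 * (j + 1) by ring, zpow_mul]
      exact Subgroup.zpow_mem _ (by rw [zpow_two]; exact hτ2) _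
  have hidx : N.index = 2 := by
    rw [Subgroup.index_eq_two_iff]
    refine ⟨⟨τ, hτm⟩, ?_⟩
    rintro ⟨x, hx⟩
    have hnot : ¬ (x * τ ∈ (MulAut.conj : S →* MulAut S).range ∧ x ∈ (MulAut.conj : S →* MulAut S).range) := by
      rintro ⟨h2, h3⟩
      apply hτ1
      have := Subgroup.mul_mem _ (Subgroup.inv_mem _ h3) h2
      rwa [inv_mul_cancel_left] at this
    show Xor (x * τ ∈ (MulAut.conj : S →* MulAut S).range) (x ∈ (MulAut.conj : S →* MulAut S).range)
    rcases hall x hx with h3 | h3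
    · exact Or.inr ⟨h3, fun h' => hnot ⟨h', h3⟩⟩
    · exact Or.inl ⟨h3, fun h' => hnot ⟨h3, h'⟩⟩
  -- the embedding
  let j : S →* AutExt τ := (MulAut.conj : S →* MulAut S).codRestrict _ fun s => hle ⟨s, rfl⟩
  have hj : Function.Injective j := fun a b hab => hinj (congrArg Subtype.val hab)
  have hjr : j.range = N := by
    ext ⟨x, hx⟩
    rw [Subgroup.mem_subgroupOf]
    constructor
    · rintro ⟨s, hs⟩
      exact ⟨s, congrArg Subtype.val hs⟩
    · rintro ⟨s, hs⟩
      exact ⟨s, Subtype.ext hs⟩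
  have hNc : N ≤ commutator (AutExt τ) := by
    rw [← hjr, MonoidHom.range_eq_map, ← hcomm, commutator_def, Subgroup.map_commutator, commutator_def]
    exact Subgroup.commutator_mono le_top le_top
  have hfA : Finite (AutExt τ) := inferInstance
  have hjc : ∀ (t : AutExt τ) (s : S), t * j s * t⁻¹ = j ((t : MulAut S) s) := fun t s =>
    Subtype.ext (hconj (t : MulAut S) s)
  intro P
  refine rk_of_two hN hidx hNc P fun t ht => ?_
  -- the Sylow subgroup of `S`
  let R : Subgroup S := (P : Subgroup (AutExt τ)).comap j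
  have hR : IsPGroup 2 R := P.2.comap_of_injective j hj
  -- the isomorphism with the subgroup of `P`
  let i : R →* N.subgroupOf (P : Subgroup (AutExt τ)) :=
    { toFun := fun s => ⟨⟨j (s : S), s.2⟩, by
        rw [Subgroup.mem_subgroupOf, ← hjr]
        exact ⟨s, rfl⟩⟩
      map_one' := by
        apply Subtype.ext
        apply Subtype.ext
        exact map_one j
      map_mul' := fun a b => by
        apply Subtype.ext
        apply Subtype.ext
        exact map_mul j (a : S) (b : S) }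
  have hi : Function.Bijective i := by
    constructor
    · intro a b hab
      exact Subtype.ext (hj (congrArg (fun x => ((x : N.subgroupOf (P : Subgroup (AutExt τ))) : P).1) hab))
    · rintro ⟨⟨x, hx⟩, hxN⟩
      have hxN' : x ∈ N := hxN
      rw [← hjr] at hxN'
      obtain ⟨s, hs⟩ := hxN'
      refine ⟨⟨s, ?_⟩, ?_⟩
      · show j s ∈ (P : Subgroup (AutExt τ))
        rw [hs]
        exact hx
      · apply Subtype.ext
        apply Subtype.ext
        exact hs
  have hRi : ¬ 2 ∣ R.index := by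
    have hQ : (N.subgroupOf (P : Subgroup (AutExt τ))).index = 2 := by
      have h1 : N.relIndex (P : Subgroup (AutExt τ)) ∣ N.index := Subgroup.relIndex_dvd_index_of_normal N P
      rw [hidx, Nat.dvd_prime Nat.prime_two] at h1
      rcases h1 with h1 | h1
      · exact absurd (Subgroup.relIndex_eq_one.1 h1 t.2) ht
      · exact h1
    have h5 := Subgroup.card_mul_index (P : Subgroup (AutExt τ))
    have h6 := Subgroup.card_mul_index N
    have h7 := Subgroup.card_mul_index (N.subgroupOf (P : Subgroup (AutExt τ)))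
    have h8 := Subgroup.card_mul_index R
    have h9 : Nat.card R = Nat.card (N.subgroupOf (P : Subgroup (AutExt τ))) := Nat.card_congr (Equiv.ofBijective i hi)
    have h10 : Nat.card S = Nat.card N := by
      rw [← hjr]
      exact Nat.card_congr (MonoidHom.ofInjective hj).toEquiv
    rw [hQ, ← h9] at h7
    rw [hidx, ← h10, ← h8] at h6
    have h11 : Nat.card R * R.index = Nat.card R * (P : Subgroup (AutExt τ)).index := by
      have e1 : Nat.card R * R.index * 2 = Nat.card R * (P : Subgroup (AutExt τ)).index * 2 := by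
        rw [h6, ← h5, ← h7]
        ring
      exact Nat.eq_of_mul_eq_mul_right (by norm_num) e1
    rw [Nat.eq_of_mul_eq_mul_left Nat.card_pos h11]
    exact P.not_dvd_index
  let α : MulAut S := ((t : AutExt τ) : MulAut S)
  have hα1 : ∀ s ∈ R, α s ∈ R := by
    intro s hs
    show j (α s) ∈ (P : Subgroup (AutExt τ))
    rw [← hjc]
    exact Subgroup.mul_mem _ (Subgroup.mul_mem _ t.2 hs) (Subgroup.inv_mem _ t.2)
  have hα : R.map α.toMonoidHom = R := by
    have h1 : R.map α.toMonoidHom ≤ R := by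
      rintro _ ⟨s, hs, rfl⟩
      exact hα1 s hs
    refine Subgroup.eq_of_le_of_card_ge h1 ?_
    rw [← Nat.card_congr (R.equivMapOfInjective α.toMonoidHom α.injective).toEquiv]
  obtain ⟨f, hf1, hf2⟩ := hf (hR.toSylow hRi) α (t : AutExt τ).2 hα
  let e := MulEquiv.ofBijective i hi
  refine ⟨(show R →* Multiplicative (Fin 2 → ZMod 2) from f).comp e.symm.toMonoidHom, ?_, ?_⟩
  · exact hf1.comp e.symm.surjective
  · intro q q' hq
    refine hf2 (e.symm q) (e.symm q') ?_
    apply hj
    have e1 : ∀ r : N.subgroupOf (P : Subgroup (AutExt τ)), j ((e.symm r : R) : S) = ((r : P) : AutExt τ) := by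
      intro r
      exact congrArg (fun x => (((x : N.subgroupOf (P : Subgroup (AutExt τ))) : P) : AutExt τ)) (e.apply_symm_apply r)
    show j ((e.symm q' : R) : S) = j (α ((e.symm q : R) : S))
    rw [e1, ← hjc, e1, hq]
    rfl

end Cfsg.Agent.H189.K547.Ext
end

-- part: H805/K4/TitsSyl
section
/-!
# The Sylow 2-subgroups of the Tits group (helper805)

They are generated by two elements which do not commute: `twoGen_T`, `frattini_T : (frattini P).index = 4`.
-/

set_option autoImplicit false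
set_option maxRecDepth 100000
set_option exponentiation.threshold 5000

namespace Cfsg.Agent.H805.K4.TitsSyl

open Cfsg Cfsg.Agent.H805.K4.Bit
open Cfsg.Agent.SporadicB.RuData Cfsg.Agent.SporadicB.RuOrder Cfsg.Agent.SporadicB.RuTitsData
open Cfsg.Agent.SporadicB.RuTits
open Cfsg.Agent.Lib.BitNet Cfsg.Agent.Lib.BitNetSimple
open MulAction

/-- Generated by two elements which do not commute. -/
def TwoGen (P : Type*) [Group P] : Prop := ∃ a b : P, Subgroup.closure {a, b} = ⊤ ∧ a * b ≠ b * a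

theorem TwoGen.congr {P Q : Type*} [Group P] [Group Q] (h : TwoGen P) (e : P ≃* Q) : TwoGen Q := by
  obtain ⟨a, b, h1, h2⟩ := h
  refine ⟨e a, e b, ?_, fun h => h2 (e.injective (by rw [map_mul, map_mul, h]))⟩
  have h3 : ({e a, e b} : Set Q) = e.toMonoidHom '' {a, b} := by
    rw [Set.image_pair]
    rfl
  rw [h3, ← MonoidHom.map_closure, h1, ← MonoidHom.range_eq_map, MonoidHom.range_eq_top]
  exact e.surjective

/-! ### the subgroup of order 2048 -/

def g2 : List (ℕ × ℕ) := k0 ++ k0

/-- a word fixing the point 4 -/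
def w : List (ℕ × ℕ) := g2 ++ (k1 ++ (g2 ++ (k1.reverse ++ (k1.reverse ++ (g2 ++ (k1 ++ (g2.reverse ++
  (k1.reverse ++ k1.reverse))))))))

theorem gmem : Mem T1 g2 := kmem0.append kmem0

def Q : Subgroup (Equiv.Perm (Fin 4060)) := Subgroup.closure {perm kmem1.1, perm gmem.1}

theorem Q_le : Q ≤ T1 := by
  rw [Q, Subgroup.closure_le]
  rintro g (rfl | rfl)
  · exact kmem1.2
  · exact gmem.2

theorem qk : Mem Q k1 := ⟨kmem1.1, Subgroup.subset_closure (Or.inl rfl)⟩
theorem qg : Mem Q g2 := ⟨gmem.1, Subgroup.subset_closure (Or.inr rfl)⟩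

theorem gensQ : ∀ g ∈ [k1, g2], Mem Q g := by
  intro g hg
  simp only [List.mem_cons, List.not_mem_nil, or_false] at hg
  rcases hg with rfl | rfl
  exacts [qk, qg]

def Q2 : Subgroup (Equiv.Perm (Fin 4060)) := Q ⊓ stabilizer (Equiv.Perm (Fin 4060)) p2

theorem wfix : Nat.beq (appF w 4) 4 = true := by decide +kernel

theorem qw : Mem Q2 w :=
  Mem.stab (qg.append (qk.append (qg.append (qk.reverse.append (qk.reverse.append (qg.append (qk.append
    (qg.reverse.append (qk.reverse.append qk.reverse))))))))) wfix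

theorem gensQ2 : ∀ g ∈ [w], Mem Q2 g := by
  intro g hg
  simp only [List.mem_cons, List.not_mem_nil, or_false] at hg
  rcases hg with rfl
  exact qw

def z1 : Fin 4060 := ⟨1, by norm_num⟩

theorem orbQ : Nat.ble 1024 (popc 12 (iterF [k1, g2] 20 (Nat.pow 2 4))) = true := by decide +kernel
theorem orbQ2 : Nat.ble 2 (popc 12 (iterF [w] 1 (Nat.pow 2 1))) = true := by decide +kernel

theorem lowQ : 1024 * Nat.card Q2 ≤ Nat.card Q := lower_step' (L := 12) (k := 20) gensQ orbQ
theorem lowQ2 : 2 * Nat.card (Q2 ⊓ stabilizer (Equiv.Perm (Fin 4060)) z1 : Subgroup (Equiv.Perm (Fin 4060))) ≤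
    Nat.card Q2 := lower_step' (L := 12) (k := 1) gensQ2 orbQ2

/-- a point of the orbit of length 10 -/
def z : Fin 4060 := ⟨297, by norm_num⟩

def z' : Fin 4060 := ⟨2606, by norm_num⟩

theorem orbT1z : Nat.ble 10 (popc 12 (iterF [k0, k1] 6 (Nat.pow 2 297))) = true := by decide +kernel

theorem lowT1z : 10 * Nat.card (T1 ⊓ stabilizer (Equiv.Perm (Fin 4060)) z : Subgroup (Equiv.Perm (Fin 4060))) ≤
    Nat.card T1 := lower_step' (L := 12) (k := 6) gensT1 orbT1z

def mz : ℕ := Nat.add (Nat.pow 2 297) (Nat.pow 2 2606)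

theorem mz_inv0 : Nat.beq (appMF k1 mz) mz = true := by decide +kernel
theorem mz_inv1 : Nat.beq (appMF g2 mz) mz = true := by decide +kernel

theorem popc_mz : Nat.beq (popc 12 mz) 2 = true := by decide +kernel

theorem mz_z : tb mz 297 = true := by decide +kernel

theorem mz_inv (g : Equiv.Perm (Fin 4060)) (hg : g ∈ Q) (x : Fin 4060) : mz.testBit (g x) = mz.testBit x := by
  refine inv_closure ?_ hg x
  rintro g (rfl | rfl)
  · exact inv_of _ mz_inv0
  · exact inv_of _ mz_inv1

theorem card_orbit_le : Nat.card (orbit Q z) ≤ 2 := by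
  classical
  have h1 : orbit Q z ⊆ ((pts 4060 mz : Finset (Fin 4060)) : Set (Fin 4060)) := by
    rintro _ ⟨g, rfl⟩
    rw [Finset.mem_coe, mem_pts]
    have h2 := mz_inv g.1 g.2 z
    have h3 := mz_z
    rw [tb_eq] at h3
    have h4 : mz.testBit (z : ℕ) = true := h3
    rw [h4] at h2
    exact h2
  rw [Nat.card_coe_set_eq]
  refine (Set.ncard_le_ncard h1 (Finset.finite_toSet _)).trans ?_
  rw [Set.ncard_coe_finset]
  refine (card_pts_le (K := 12) (by norm_num) _).trans ?_
  rw [Nat.eq_of_beq_eq_true popc_mz]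

theorem card_Q : Nat.card Q = 2048 := by
  have h1 := lowQ
  have h2 := lowQ2
  have h3 : 0 < Nat.card (Q2 ⊓ stabilizer (Equiv.Perm (Fin 4060)) z1 : Subgroup (Equiv.Perm (Fin 4060))) :=
    Nat.card_pos
  have h4 := lowT1z
  rw [card_T1] at h4
  have h5 := card_eq_orbit_mul Q z
  have h6 : Nat.card (Q ⊓ stabilizer (Equiv.Perm (Fin 4060)) z : Subgroup (Equiv.Perm (Fin 4060))) ≤
      Nat.card (T1 ⊓ stabilizer (Equiv.Perm (Fin 4060)) z : Subgroup (Equiv.Perm (Fin 4060))) :=
    Subgroup.card_le_of_le (inf_le_inf_right _ Q_le)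
  have h7 := card_orbit_le
  have h8 : Nat.card Q ≤ 2 * 1024 := by
    rw [h5]
    exact Nat.mul_le_mul h7 (h6.trans (by omega))
  omega

instance : Finite T := Nat.finite_of_card_ne_zero (by rw [card_T]; norm_num)

theorem Q_le_T : Q ≤ T := Q_le.trans inf_le_left

end Cfsg.Agent.H805.K4.TitsSyl
end

-- part: H189/K547/Tits
section
/-!
# S4547: the row of the Tits group (helper189)

* `TitsX`: the element of order 16 (`XCond`);
* `TitsInv`: automorphisms act trivially on the Frattini quotient of a Sylow 2-subgroup;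
* `TitsChar`: the characters of degree 1, 351, 675;
* `Tits.row`.
-/

/-!
# The Tits group: an element of order 16 (helper189, S4547)

`x = k1 g2` in the Sylow 2-subgroup `Q` of `T` has order 16; its normaliser has order less than 64: it fixes the points
0, 1968 and the set `{297, 2606}` (the fixed points of `x`, `x ^ 2`), so it lies in `Q`, and `<x>` has at least 33
conjugates in `Q` (their orbits of the point 13 are different).
-/

set_option autoImplicit false
set_option maxRecDepth 100000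
set_option exponentiation.threshold 5000
set_option linter.unusedSectionVars false

namespace Cfsg.Agent.H189.K547.TitsX

open Cfsg Cfsg.Agent.H805.K4.Bit Cfsg.Agent.H805.K4.TitsSyl
open Cfsg.Agent.SporadicB.RuData Cfsg.Agent.SporadicB.RuOrder Cfsg.Agent.SporadicB.RuTitsData
open Cfsg.Agent.SporadicB.RuTits
open Cfsg.Agent.Lib.BitNet Cfsg.Agent.Lib.BitNetSimple
open MulAction

/-- the network of `x` -/
def X0 : List (ℕ × ℕ) := k1 ++ g2

theorem qX : Mem Q X0 := qk.append qg

/-- the element of order 16 -/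
noncomputable def xp : Equiv.Perm (Fin 4060) := perm qX.1

theorem xp_mem : xp ∈ Q := qX.2

theorem xp_pow (k : ℕ) (i : Fin 4060) : (((xp ^ k) i : Fin 4060) : ℕ) = (app X0)^[k] i := perm_pow_apply _ _ _

/-! ### fixed points -/

/-- the mask of the numbers below 4096 with bit `b` -/
def plane (b : ℕ) : ℕ := Nat.mul (Nat.div (Nat.sub (Nat.pow 2 4096) 1) (Nat.add (Nat.pow 2 (Nat.pow 2 b)) 1))
  (Nat.pow 2 (Nat.pow 2 b))

/-- points which are moved -/
noncomputable def movedF (l : List (ℕ × ℕ)) (k : ℕ) : ℕ → ℕ :=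
  Nat.rec (fun acc => acc) (fun b ih acc => force (plane b) (fun p => force (appMF l p) (fun q =>
    force (Nat.lor acc (Nat.xor p q)) ih))) k

theorem testBit_movedF {l : List (ℕ × ℕ)} (hv : OkNet 4060 l) {i : ℕ} (hi : app l i = i) : ∀ (k acc : ℕ),
    acc.testBit i = false → (movedF l k acc).testBit i = false
  | 0, _, h => h
  | b + 1, acc, h => by
    have e : movedF l (b + 1) acc = movedF l b (Nat.lor acc (Nat.xor (plane b) (appMF l (plane b)))) := by
      show force (plane b) (fun p => force (appMF l p) (fun q => force (Nat.lor acc (Nat.xor p q)) (movedF l b))) = _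
      rw [force_eq, force_eq, force_eq]
    rw [e]
    apply testBit_movedF hv hi
    have h1 : Nat.lor acc (Nat.xor (plane b) (appMF l (plane b))) = acc ||| (plane b ^^^ appMF l (plane b)) := rfl
    rw [h1, Nat.testBit_or, h, Nat.testBit_xor, appMF_eq]
    have h2 := testBit_appM hv.valid (plane b) i
    rw [hi] at h2
    rw [h2]
    simp

theorem moved1 : Nat.beq (Nat.lor (movedF X0 12 0) (Nat.lor (Nat.pow 2 0) (Nat.pow 2 1968)))
    (Nat.sub (Nat.pow 2 4060) 1) = true := by decide +kernel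

theorem moved2 : Nat.beq (Nat.lor (movedF (X0 ++ X0) 12 0) (Nat.lor (Nat.lor (Nat.pow 2 0) (Nat.pow 2 1968))
    (Nat.lor (Nat.pow 2 297) (Nat.pow 2 2606)))) (Nat.sub (Nat.pow 2 4060) 1) = true := by decide +kernel


theorem fix1 {i : Fin 4060} (h : xp i = i) : (i : ℕ) = 0 ∨ (i : ℕ) = 1968 := by
  have h0 := congrArg (fun m => Nat.testBit m (i : ℕ)) (Nat.eq_of_beq_eq_true moved1)
  have h1 : (movedF X0 12 0).testBit i = false := by
    refine testBit_movedF qX.1 ?_ 12 0 (Nat.zero_testBit _)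
    exact (congrArg Fin.val h :)
  have e1 : ∀ a b : ℕ, Nat.lor a b = a ||| b := fun _ _ => rfl
  have e2 : ∀ a b : ℕ, Nat.pow a b = a ^ b := fun _ _ => rfl
  have e3 : ∀ a b : ℕ, Nat.sub a b = a - b := fun _ _ => rfl
  simp only [e1, e2, e3, Nat.testBit_or, h1, Bool.false_or, Nat.testBit_two_pow_sub_one, Nat.testBit_two_pow,
    i.2, decide_true, Bool.or_eq_true, decide_eq_true_eq] at h0
  omega

theorem fix2 {i : Fin 4060} (h : xp (xp i) = i) : (i : ℕ) = 0 ∨ (i : ℕ) = 1968 ∨ (i : ℕ) = 297 ∨ (i : ℕ) = 2606 := by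
  have h0 := congrArg (fun m => Nat.testBit m (i : ℕ)) (Nat.eq_of_beq_eq_true moved2)
  have h1 : (movedF (X0 ++ X0) 12 0).testBit i = false := by
    refine testBit_movedF (okNet_append qX.1 qX.1) ?_ 12 0 (Nat.zero_testBit _)
    rw [app_append]
    exact congrArg Fin.val h
  have e1 : ∀ a b : ℕ, Nat.lor a b = a ||| b := fun _ _ => rfl
  have e2 : ∀ a b : ℕ, Nat.pow a b = a ^ b := fun _ _ => rfl
  have e3 : ∀ a b : ℕ, Nat.sub a b = a - b := fun _ _ => rfl
  simp only [e1, e2, e3, Nat.testBit_or, h1, Bool.false_or, Nat.testBit_two_pow_sub_one, Nat.testBit_two_pow,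
    i.2, decide_true, Bool.or_eq_true, decide_eq_true_eq] at h0
  (clear * - h0; omega)

/-! ### the conjugates in `Q` -/

/-- the network of a word -/
def netW : List Bool → List (ℕ × ℕ)
  | [] => []
  | c :: w => (cond c g2 k1) ++ netW w

theorem qW : ∀ w : List Bool, Mem Q (netW w)
  | [] => by
    refine ⟨⟨fun p hp => absurd hp List.not_mem_nil, fun i => Iff.rfl⟩, ?_⟩
    exact Q.one_mem
  | c :: w => by
    cases c
    · exact qk.append (qW w)
    · exact qg.append (qW w)

/-- the element of a word -/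
noncomputable def wp (w : List Bool) : Equiv.Perm (Fin 4060) := perm (qW w).1

theorem wp_mem (w : List Bool) : wp w ∈ Q := (qW w).2

/-- the orbit of 13 under a conjugate of `<x>` -/
def Phi (g : Equiv.Perm (Fin 4060)) : Set (Fin 4060) :=
  {ω | ∃ h ∈ Subgroup.zpowers xp, ω = g (h (g⁻¹ (⟨13, by norm_num⟩ : Fin 4060)))}

theorem Phi_mul {g n : Equiv.Perm (Fin 4060)} (hn : ∀ h, h ∈ Subgroup.zpowers xp ↔ n * h * n⁻¹ ∈ Subgroup.zpowers xp) :
    Phi (g * n) = Phi g := by
  ext ω
  constructor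
  · rintro ⟨h, hh, rfl⟩
    refine ⟨n * h * n⁻¹, (hn h).1 hh, ?_⟩
    rw [mul_inv_rev]
    simp only [Equiv.Perm.mul_apply]
  · rintro ⟨h, hh, rfl⟩
    refine ⟨n⁻¹ * h * n, (hn _).2 (by simpa [mul_assoc] using hh), ?_⟩
    have e : g (h (g⁻¹ (⟨13, by norm_num⟩ : Fin 4060))) =
        (g * n) ((n⁻¹ * h * n) ((g * n)⁻¹ (⟨13, by norm_num⟩ : Fin 4060))) := by
      simp only [← Equiv.Perm.mul_apply]
      congr 1
      group
    exact e

/-- the mask of a list of points -/
def maskL : List ℕ → ℕ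
  | [] => 0
  | a :: l => Nat.lor (Nat.pow 2 a) (maskL l)

theorem testBit_maskL (i : ℕ) : ∀ l : List ℕ, (maskL l).testBit i = true ↔ i ∈ l
  | [] => by
    show (0 : ℕ).testBit i = true ↔ _
    simp
  | a :: l => by
    have e : maskL (a :: l) = 2 ^ a ||| maskL l := rfl
    rw [e, Nat.testBit_or, Bool.or_eq_true, testBit_maskL i l, List.mem_cons, Nat.testBit_two_pow, decide_eq_true_eq]
    exact or_congr_left eq_comm

/-- `Phi` of the word `p.1` consists of the points `p.2.2` -/
noncomputable def chk (p : List Bool × ℕ × List ℕ) : Bool :=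
  force (iterF [X0] 7 (Nat.pow 2 p.2.1)) (fun M => Nat.beq (appF (netW p.1) p.2.1) 13 &&
    (Nat.beq (appMF X0 M) M && (tb M p.2.1 && (Nat.blt p.2.1 4060 && Nat.beq (appMF (netW p.1) M) (maskL p.2.2)))))

theorem mem_Phi {p : List Bool × ℕ × List ℕ} (h : chk p = true) (ω : Fin 4060) :
    ω ∈ Phi (wp p.1) ↔ (ω : ℕ) ∈ p.2.2 := by
  obtain ⟨w, r, l⟩ := p
  rw [chk, force_eq] at h
  simp only [Bool.and_eq_true] at h
  obtain ⟨h1, h2, h3, h4, h5⟩ := h
  rw [← testBit_maskL, ← Nat.eq_of_beq_eq_true h5, appMF_eq]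
  have hr : r < 4060 := by
    rw [Nat.blt_eq] at h4
    exact h4
  have h6 : (wp w)⁻¹ (⟨13, by norm_num⟩ : Fin 4060) = ⟨r, hr⟩ := by
    rw [Equiv.Perm.inv_eq_iff_eq]
    apply Fin.ext
    rw [appF_eq] at h1
    exact (Nat.eq_of_beq_eq_true h1).symm
  generalize hM : iterF [X0] 7 (Nat.pow 2 r) = M at h2 h3 ⊢
  have hinv : ∀ g ∈ Subgroup.zpowers xp, ∀ x : Fin 4060, M.testBit (g x) = M.testBit x := by
    intro g hg x
    rw [Subgroup.zpowers_eq_closure] at hg
    refine inv_closure ?_ hg x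
    rintro _ rfl
    exact inv_of _ h2
  have hb : ∀ y : Fin 4060, (appM (netW w) M).testBit (wp w y) = M.testBit y := by
    intro y
    exact testBit_appM (qW w).1.valid M y
  constructor
  · rintro ⟨g, hg, rfl⟩
    rw [hb, h6, hinv g hg]
    rw [tb_eq] at h3
    exact h3
  · intro hω
    have e : wp w ((wp w)⁻¹ ω) = ω := (wp w).apply_symm_apply _
    rw [← e, hb] at hω
    have hm : ∀ g ∈ [X0], Mem (Subgroup.zpowers xp) g := by
      intro g hg
      rw [List.mem_singleton] at hg
      subst hg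
      exact ⟨qX.1, Subgroup.mem_zpowers _⟩
    obtain ⟨g, hg, hgx⟩ := exists_of_iterF (b := ⟨r, hr⟩) hm (c := M) (k := 7) (by
      show Nat.beq (iterF [X0] 7 (Nat.pow 2 r)) M = true
      rw [hM, Nat.beq_refl]) hω
    refine ⟨g, hg, ?_⟩
    rw [h6, hgx, e]

/-- 33 conjugates -/
def data : List (List Bool × ℕ × List ℕ) :=
  [([], 13, [13, 353, 370, 2066, 2521, 3364, 3393, 3985]),
  ([false], 372, [13, 279, 353, 370, 494, 1492, 1526, 3735]),
  ([false, false], 3191, [13, 57, 172, 2691, 2979, 3005, 3364, 3664]),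
  ([false, false, false], 181, [13, 1298, 1882, 2066, 2444, 2521, 2979, 3191]),
  ([false, false, true], 931, [13, 494, 1882, 2346, 2419, 2691, 2979, 3124]),
  ([false, false, false, true], 3877, [13, 402, 1157, 1526, 2691, 3054, 3664, 3735]),
  ([false, false, true, false], 2444, [13, 370, 372, 982, 1882, 2419, 3877, 3985]),
  ([false, false, false, true, false], 1877, [13, 279, 372, 1298, 2419, 2691, 2979, 3393]),
  ([false, false, true, false, false], 2267, [13, 57, 931, 1190, 1298, 1376, 3475, 3664]),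
  ([false, false, true, false, true], 1710, [13, 57, 279, 353, 3345, 3475, 3664, 4012]),
  ([false, false, false, true, false, false], 3735, [13, 1190, 1376, 2065, 2419, 2676, 3054, 3474]),
  ([false, false, false, true, false, true], 2569, [13, 57, 1492, 2691, 2979, 3054, 3475, 3985]),
  ([false, false, true, false, false, false], 2676, [13, 172, 508, 982, 1526, 3305, 3664, 3735]),
  ([false, false, true, false, false, true], 1468, [13, 181, 372, 1189, 1882, 2419, 3054, 3474]),
  ([false, false, true, false, true, false], 13, [13, 508, 1492, 1526, 2366, 3305, 3516, 3985]),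
  ([false, false, false, true, false, false, false], 1298, [13, 57, 181, 494, 1022, 1189, 3191, 3735]),
  ([false, false, false, true, false, false, true], 3475, [13, 57, 181, 931, 1189, 1298, 2366, 3057]),
  ([false, false, false, true, false, true, false], 372, [13, 508, 2066, 2346, 2676, 3124, 3305, 3345]),
  ([false, false, true, false, false, false, true], 3393, [13, 1710, 1882, 2066, 2346, 2521, 3345, 4048]),
  ([false, false, true, false, false, true, false], 3057, [13, 57, 494, 1190, 1376, 1492, 3005, 3191]),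
  ([false, false, true, false, true, false, false], 3664, [13, 1710, 2167, 2419, 2521, 2676, 3191, 3305]),
  ([false, false, true, false, true, false, true], 3720, [13, 279, 1710, 2065, 2066, 2167, 3393, 4048]),
  ([false, false, false, true, false, false, false, true], 494, [13, 402, 1190, 1376, 2419, 2521, 3176, 3364]),
  ([false, false, false, true, false, false, true, false], 3364, [13, 172, 982, 1526, 1710, 3005, 3057, 4048]),
  ([false, false, false, true, false, true, false, false], 982, [13, 172, 372, 2066, 2676, 3054, 3877, 4012]),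
  ([false, false, true, false, false, false, true, false], 172, [13, 172, 353, 370, 1882, 2065, 2066, 3054]),
  ([false, false, true, false, false, true, false, false], 3474, [13, 402, 1526, 2444, 2979, 3005, 3054, 3057]),
  ([false, false, true, false, false, true, false, true], 1492, [13, 181, 402, 1189, 2419, 3124, 3364, 3393]),
  ([false, false, true, false, true, false, false, false], 2167, [13, 172, 353, 2419, 2521, 3176, 3516, 4012]),
  ([false, false, true, false, true, false, false, true], 1022, [13, 57, 402, 1710, 3057, 3305, 3516, 3735]),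
  ([false, false, true, false, true, false, true, false], 1882, [13, 181, 372, 402, 982, 1190, 2066, 2676]),
  ([false, false, false, true, false, false, false, true, false], 2444, [13, 57, 353, 1492, 2167, 2346, 3005, 4012]),
  ([false, false, false, true, false, false, true, false, false], 2691, [13, 494, 1157, 2346, 2419, 2444, 2521, 2676])]

theorem chk_data : ∀ p ∈ data, chk p = true := by
  intro p hp
  simp only [data, List.mem_cons, List.not_mem_nil, or_false] at hp
  rcases hp with rfl | rfl | rfl | rfl | rfl | rfl | rfl | rfl | rfl | rfl | rfl | rfl | rfl | rfl | rfl | rfl | rfl | rfl | rfl | rfl | rfl | rfl | rfl | rfl | rfl | rfl | rfl | rfl | rfl | rfl | rfl | rfl | rfl <;>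
    decide +kernel

/-- different lists -/
def sep (p q : List Bool × ℕ × List ℕ) : Bool := p.2.2.any (fun a => !(q.2.2.contains a))

theorem sep_data : data.Pairwise (fun p q => sep p q = true) := by decide +kernel

theorem sep_spec {p q : List Bool × ℕ × List ℕ} (hp : ∀ a ∈ p.2.2, a < 4060) (h1 : chk p = true) (h2 : chk q = true)
    (h : sep p q = true) : Phi (wp p.1) ≠ Phi (wp q.1) := by
  intro he
  rw [sep, List.any_eq_true] at h
  obtain ⟨a, ha, hb⟩ := h
  have h3 : (⟨a, hp a ha⟩ : Fin 4060) ∈ Phi (wp p.1) := (mem_Phi h1 _).2 ha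
  rw [he, mem_Phi h2] at h3
  rw [Bool.not_eq_true', ← Bool.not_eq_true, List.contains_iff_mem] at hb
  exact hb h3

theorem lt_data : ∀ p ∈ data, ∀ a ∈ p.2.2, a < 4060 := by decide +kernel

theorem length_data : data.length = 33 := rfl


/-! ### the stabiliser of `{297, 2606}` in `T1` is `Q` -/

/-- the stabiliser of `{297, 2606}` -/
def R : Subgroup (Equiv.Perm (Fin 4060)) where
  carrier := {g | g ∈ T1 ∧ ∀ x : Fin 4060, mz.testBit (g x) = mz.testBit x}
  one_mem' := ⟨T1.one_mem, fun _ => rfl⟩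
  mul_mem' := by
    rintro a b ⟨ha, ha'⟩ ⟨hb, hb'⟩
    exact ⟨T1.mul_mem ha hb, fun x => by rw [Equiv.Perm.mul_apply, ha', hb']⟩
  inv_mem' := by
    rintro a ⟨ha, ha'⟩
    refine ⟨T1.inv_mem ha, fun x => ?_⟩
    have h1 : a (a⁻¹ x) = x := a.apply_symm_apply x
    rw [← ha' (a⁻¹ x), h1]

theorem R_eq : R = Q := by
  classical
  symm
  refine Subgroup.eq_of_le_of_card_ge (fun g hg => ⟨Q_le hg, mz_inv g hg⟩) ?_
  have h1 : orbit R z ⊆ ((pts 4060 mz : Finset (Fin 4060)) : Set (Fin 4060)) := by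
    rintro _ ⟨g, rfl⟩
    rw [Finset.mem_coe, mem_pts]
    have h2 := g.2.2 z
    have h3 := mz_z
    rw [tb_eq] at h3
    have h4 : mz.testBit (z : ℕ) = true := h3
    rw [h4] at h2
    exact h2
  have h2 : Nat.card (orbit R z) ≤ 2 := by
    rw [Nat.card_coe_set_eq]
    refine (Set.ncard_le_ncard h1 (Finset.finite_toSet _)).trans ?_
    rw [Set.ncard_coe_finset]
    refine (card_pts_le (K := 12) (by norm_num) _).trans ?_
    rw [Nat.eq_of_beq_eq_true popc_mz]
  have h4 := lowT1z
  rw [card_T1] at h4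
  have h5 := card_eq_orbit_mul R z
  have h6 : Nat.card (R ⊓ stabilizer (Equiv.Perm (Fin 4060)) z : Subgroup (Equiv.Perm (Fin 4060))) ≤
      Nat.card (T1 ⊓ stabilizer (Equiv.Perm (Fin 4060)) z : Subgroup (Equiv.Perm (Fin 4060))) :=
    Subgroup.card_le_of_le (inf_le_inf_right _ fun g hg => hg.1)
  rw [card_Q, h5]
  have h7 := Nat.mul_le_mul h2 (h6.trans (show _ ≤ 1024 by omega))
  omega

/-! ### the order of `x` -/

theorem eq_one_of {g : Equiv.Perm (Fin 4060)} (hg : g ∈ Q) (h4 : g p2 = p2) (h1 : g z1 = z1) : g = 1 := by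
  have e1 := lowQ
  have e2 := lowQ2
  rw [card_Q] at e1
  have e3 : Nat.card (Q2 ⊓ stabilizer (Equiv.Perm (Fin 4060)) z1 : Subgroup (Equiv.Perm (Fin 4060))) ≤ 1 := by omega
  have e4 := Subgroup.eq_bot_of_card_le _ e3
  have e5 : g ∈ (Q2 ⊓ stabilizer (Equiv.Perm (Fin 4060)) z1 : Subgroup (Equiv.Perm (Fin 4060))) := ⟨⟨hg, h4⟩, h1⟩
  rw [e4] at e5
  exact Subgroup.mem_bot.1 e5

theorem x16a : Nat.beq (powF X0 16 4) 4 = true := by decide +kernel
theorem x16b : Nat.beq (powF X0 16 1) 1 = true := by decide +kernel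
theorem x8 : Nat.beq (powF X0 8 4) 4 = false := by decide +kernel

theorem orderOf_x : orderOf xp = 2 ^ (3 + 1) := by
  have : Fact (Nat.Prime 2) := ⟨Nat.prime_two⟩
  refine orderOf_eq_prime_pow ?_ ?_
  · intro h
    have h1 := xp_pow 8 p2
    have h2 : xp ^ 8 = 1 := h
    rw [h2, ← powF_eq] at h1
    have h3 : powF X0 8 4 = 4 := h1.symm
    have h4 := x8
    rw [h3] at h4
    exact Bool.noConfusion h4
  · refine eq_one_of (Q.pow_mem xp_mem _) ?_ ?_
    · exact perm_pow_fix qX.1 x16a
    · exact perm_pow_fix qX.1 x16b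

/-! ### the normaliser -/

theorem z_fix : Nat.beq (appF (X0 ++ X0) 297) 297 = true := by decide +kernel
theorem z_fix' : Nat.beq (appF (X0 ++ X0) 2606) 2606 = true := by decide +kernel

theorem zpow_fix {α : Type*} {f : Equiv.Perm α} {y : α} (h : f y = y) (k : ℤ) : (f ^ k) y = y := by
  have h1 : f ∈ stabilizer (Equiv.Perm α) y := h
  exact Subgroup.zpow_mem _ h1 k

theorem mz_iff (y : Fin 4060) : mz.testBit y = true ↔ (y : ℕ) = 297 ∨ (y : ℕ) = 2606 := by
  have e : mz = 2 ^ 297 + 2 ^ 2606 := rfl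
  have e2 : mz = 2 ^ 297 ||| 2 ^ 2606 := by decide +kernel
  rw [e2, Nat.testBit_or, Nat.testBit_two_pow, Nat.testBit_two_pow, Bool.or_eq_true, decide_eq_true_eq,
    decide_eq_true_eq]
  constructor
  · rintro (h | h)
    · exact Or.inl h.symm
    · exact Or.inr h.symm
  · rintro (h | h)
    · exact Or.inl h.symm
    · exact Or.inr h.symm

theorem norm_aux {g : Equiv.Perm (Fin 4060)} (hT : g ∈ T) {k : ℤ} (hk : xp * g = g * xp ^ k) :
    g p1 = p1 ∧ ∀ y : Fin 4060, mz.testBit y = true → mz.testBit (g y) = true := by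
  have h0 : g b1 = b1 := (T_le hT).2
  have h1 : g p1 = p1 := by
    have e1 : xp p1 = p1 := (Q_le xp_mem).2
    have e2 : xp (g p1) = g p1 := by
      rw [← Equiv.Perm.mul_apply, hk, Equiv.Perm.mul_apply, zpow_fix e1]
    rcases fix1 e2 with h | h
    · exfalso
      have e3 : g p1 = g b1 := by
        rw [h0]
        exact Fin.ext h
      have e4 := congrArg Fin.val (g.injective e3)
      exact absurd e4 (by decide)
    · exact Fin.ext h
  refine ⟨h1, fun y hy => ?_⟩
  have e1 : (xp ^ 2) y = y := by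
    rw [pow_two, Equiv.Perm.mul_apply]
    apply Fin.ext
    show app X0 (app X0 y) = y
    rw [← app_append]
    rcases (mz_iff y).1 hy with h | h
    · rw [h, ← appF_eq]
      exact Nat.eq_of_beq_eq_true z_fix
    · rw [h, ← appF_eq]
      exact Nat.eq_of_beq_eq_true z_fix'
  have e2 : xp (xp (g y)) = g y := by
    rw [← Equiv.Perm.mul_apply xp g, hk, ← Equiv.Perm.mul_apply, ← mul_assoc, hk, mul_assoc, ← zpow_add, ← two_mul,
      zpow_mul, Equiv.Perm.mul_apply]
    congr 1
    exact zpow_fix (by exact_mod_cast e1) k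
  rw [mz_iff]
  have hy' := (mz_iff y).1 hy
  rcases fix2 e2 with h | h | h | h
  · exfalso
    have e3 : g y = g b1 := by
      rw [h0]
      exact Fin.ext h
    have e4 := congrArg Fin.val (g.injective e3)
    have e5 : (b1 : ℕ) = 0 := rfl
    omega
  · exfalso
    have e3 : g y = g p1 := by
      rw [h1]
      exact Fin.ext h
    have e4 := congrArg Fin.val (g.injective e3)
    have e5 : (p1 : ℕ) = 1968 := rfl
    omega
  · exact Or.inl h
  · exact Or.inr h

theorem norm_mem_Q {g : Equiv.Perm (Fin 4060)} (hT : g ∈ T)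
    (hn : ∀ h, h ∈ Subgroup.zpowers xp ↔ g * h * g⁻¹ ∈ Subgroup.zpowers xp) : g ∈ Q := by
  obtain ⟨k, hk⟩ := Subgroup.mem_zpowers_iff.1 ((hn (g⁻¹ * xp * g)).2 (by
    simp [mul_assoc]))
  obtain ⟨k', hk'⟩ := Subgroup.mem_zpowers_iff.1 ((hn xp).1 (Subgroup.mem_zpowers xp))
  obtain ⟨h1, h2⟩ := norm_aux hT (k := k) (by rw [hk]; group)
  obtain ⟨-, h3⟩ := norm_aux (T.inv_mem hT) (k := k') (by rw [hk']; group)
  rw [← R_eq]
  refine ⟨⟨hT, h1⟩, fun y => ?_⟩
  rw [Bool.eq_iff_iff]
  refine ⟨fun h => ?_, h2 y⟩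
  have h4 := h3 _ h
  have e : g⁻¹ (g y) = y := g.symm_apply_apply y
  rwa [e] at h4

/-- the normaliser of `<x>` in `Q` has index at least 33 -/
theorem card_norm {N : Subgroup (Equiv.Perm (Fin 4060))} (hNQ : N ≤ Q)
    (hN : ∀ g ∈ N, ∀ h, h ∈ Subgroup.zpowers xp ↔ g * h * g⁻¹ ∈ Subgroup.zpowers xp) : Nat.card N < 64 := by
  classical
  have h1 : 33 ≤ N.relIndex Q := by
    have hf : Function.Injective (fun i : Fin data.length =>
        (QuotientGroup.mk (⟨wp (data.get i).1, wp_mem _⟩ : Q) : Q ⧸ N.subgroupOf Q)) := by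
      have key : ∀ i j : Fin data.length, i < j →
          (QuotientGroup.mk (⟨wp (data.get i).1, wp_mem _⟩ : Q) : Q ⧸ N.subgroupOf Q) ≠
          QuotientGroup.mk (⟨wp (data.get j).1, wp_mem _⟩ : Q) := by
        intro i j hij h
        have h2 := QuotientGroup.eq.1 h
        rw [Subgroup.mem_subgroupOf] at h2
        have h3 : (wp (data.get i).1)⁻¹ * wp (data.get j).1 ∈ N := h2
        have h4 := Phi_mul (g := wp (data.get i).1) (hN _ h3)
        rw [mul_inv_cancel_left] at h4
        have h5 := List.pairwise_iff_get.1 sep_data i j hij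
        exact sep_spec (lt_data _ (List.get_mem _ _)) (chk_data _ (List.get_mem _ _)) (chk_data _ (List.get_mem _ _)) h5
          h4.symm
      intro i j h
      by_contra hne
      rcases lt_or_gt_of_ne hne with h' | h'
      · exact key i j h' h
      · exact key j i h' h.symm
    have : Finite (Q ⧸ N.subgroupOf Q) := Quotient.finite _
    have h2 := Nat.card_le_card_of_injective _ hf
    rw [Nat.card_fin, length_data] at h2
    exact h2
  have h2 := relIndex_mul_card hNQ
  rw [card_Q] at h2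
  by_contra h3
  rw [not_lt] at h3
  have h4 := Nat.mul_le_mul h1 h3
  omega

/-- the element `x` of `T` -/
noncomputable def xT : T := ⟨xp, Q_le_T xp_mem⟩

/-- **`|N_T(<x>)| < 64`** -/
theorem card_normT : Nat.card ↥(Subgroup.normalizer (Subgroup.zpowers xT : Set T)) < 64 := by
  have hz : ∀ h : T, h ∈ Subgroup.zpowers xT ↔ (h : Equiv.Perm (Fin 4060)) ∈ Subgroup.zpowers xp := by
    intro h
    simp only [Subgroup.mem_zpowers_iff]
    constructor
    · rintro ⟨k, rfl⟩
      exact ⟨k, rfl⟩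
    · rintro ⟨k, hk⟩
      exact ⟨k, Subtype.ext hk⟩
  have hn : ∀ g ∈ (Subgroup.normalizer (Subgroup.zpowers xT : Set T)).map T.subtype,
      ∀ h, h ∈ Subgroup.zpowers xp ↔ g * h * g⁻¹ ∈ Subgroup.zpowers xp := by
    rintro _ ⟨g, hg, rfl⟩ h
    have hg' := Subgroup.mem_normalizer_iff.1 hg
    constructor
    · intro hh
      have hT : h ∈ T := (Subgroup.zpowers_le.2 (Q_le_T xp_mem)) hh
      exact (hz _).1 ((hg' ⟨h, hT⟩).1 ((hz _).2 hh))
    · intro hh
      have hT : (g : Equiv.Perm (Fin 4060)) * h * (g : Equiv.Perm (Fin 4060))⁻¹ ∈ T :=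
        (Subgroup.zpowers_le.2 (Q_le_T xp_mem)) hh
      have hT' : h ∈ T := by
        have := T.mul_mem (T.mul_mem (T.inv_mem g.2) hT) g.2
        simpa [mul_assoc] using this
      exact (hz ⟨h, hT'⟩).1 ((hg' ⟨h, hT'⟩).2 ((hz _).2 hh))
  have h1 : (Subgroup.normalizer (Subgroup.zpowers xT : Set T)).map T.subtype ≤ Q := by
    intro g hg
    refine norm_mem_Q ?_ (hn g hg)
    obtain ⟨g', -, rfl⟩ := hg
    exact g'.2
  have h2 := card_norm h1 hn
  rwa [Nat.card_congr (Subgroup.equivMapOfInjective _ _ T.subtype_injective).toEquiv.symm] at h2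

/-- **`XCond` for `T`** -/
theorem xcond_T : ∃ (x : T) (n : ℕ), orderOf x = 2 ^ n ∧
    ¬ 2 ^ (n + 2) ∣ Nat.card ↥(Subgroup.normalizer (Subgroup.zpowers x : Set T)) := by
  refine ⟨xT, 4, ?_, fun h => ?_⟩
  · rw [← orderOf_x]
    exact (Subgroup.orderOf_coe xT).symm
  · have h1 := Nat.le_of_dvd Nat.card_pos h
    have h2 := card_normT
    omega

/-- **`XCond`** -/
theorem xcond {S : Type*} [Group S] (e : T ≃* S) : ∃ (x : S) (n : ℕ), orderOf x = 2 ^ n ∧
    ¬ 2 ^ (n + 2) ∣ Nat.card ↥(Subgroup.normalizer (Subgroup.zpowers x : Set S)) := by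
  obtain ⟨x, n, h1, h2⟩ := xcond_T
  refine ⟨e x, n, (e.orderOf_eq x).trans h1, ?_⟩
  have h3 : (Subgroup.zpowers x).map e.toMonoidHom = Subgroup.zpowers (e x) := MonoidHom.map_zpowers _ _
  have h5 := Subgroup.map_equiv_normalizer_eq (Subgroup.zpowers x) e
  rw [h3] at h5
  rw [← h5, ← Nat.card_congr (Subgroup.equivMapOfInjective _ e.toMonoidHom e.injective).toEquiv]
  exact h2

end Cfsg.Agent.H189.K547.TitsX

/-!
# The Tits group: automorphisms act trivially on the Frattini quotient of a Sylow 2-subgroup (helper189, S4547)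

`Q` has unique orbits of length 2 and 8 on the 1755 subgroups of order 10240.
-/

set_option autoImplicit false
set_option maxRecDepth 100000
set_option exponentiation.threshold 5000
set_option linter.unusedSectionVars false

namespace Cfsg.Agent.H189.K547.TitsInv

open Cfsg Cfsg.Agent.H805.K4.Bit Cfsg.Agent.H805.K4.TitsSyl
open Cfsg.Agent.SporadicB.RuData Cfsg.Agent.SporadicB.RuOrder Cfsg.Agent.SporadicB.RuTitsData
open Cfsg.Agent.SporadicB.RuTits
open Cfsg.Agent.Lib.BitNet Cfsg.Agent.Lib.BitNetSimple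
open Cfsg.Agent.H707.RowTitsModel Cfsg.Agent.H600.EBOrb Cfsg.Agent.H600
open MulAction

/-! ### pairs of masks which are fixed or interchanged -/

/-- the preimage of `a` is `b` -/
def Sw (a b : ℕ) (q : Equiv.Perm (Fin 4060)) : Prop := ∀ x : Fin 4060, a.testBit (q x) = b.testBit x

/-- both are fixed, or they are interchanged -/
def D (a b : ℕ) (q : Equiv.Perm (Fin 4060)) : Prop := (Sw a a q ∧ Sw b b q) ∨ (Sw a b q ∧ Sw b a q)

theorem sw_of {l : List (ℕ × ℕ)} (ok : OkNet 4060 l) {a b : ℕ} (h : Nat.beq (appMF l b) a = true) : Sw a b (perm ok) := by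
  intro x
  rw [appMF_eq] at h
  rw [← Nat.eq_of_beq_eq_true h]
  exact testBit_appM ok.valid b x

theorem Sw.mul {a b c : ℕ} {p q : Equiv.Perm (Fin 4060)} (hp : Sw a b p) (hq : Sw b c q) : Sw a c (p * q) := by
  intro x
  rw [Equiv.Perm.mul_apply, hp, hq]

theorem Sw.inv {a b : ℕ} {p : Equiv.Perm (Fin 4060)} (hp : Sw a b p) : Sw b a p⁻¹ := by
  intro x
  rw [← hp]
  congr 2
  exact p.apply_symm_apply x

/-- a pair for `Q` -/
structure Pair (a b : ℕ) : Prop where
  hk : D a b (perm qk.1)
  hg : D a b (perm qg.1)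
  ne : ∃ x : Fin 4060, a.testBit x ≠ b.testBit x

variable {a b : ℕ}

theorem Pair.dich (h : Pair a b) {q : Equiv.Perm (Fin 4060)} (hq : q ∈ Q) : D a b q := by
  induction hq using Subgroup.closure_induction with
  | mem x hx =>
    rcases hx with rfl | rfl
    · exact h.hk
    · exact h.hg
  | one => exact Or.inl ⟨fun _ => rfl, fun _ => rfl⟩
  | mul x y _ _ hx hy =>
    rcases hx with ⟨h1, h2⟩ | ⟨h1, h2⟩ <;> rcases hy with ⟨h3, h4⟩ | ⟨h3, h4⟩
    · exact Or.inl ⟨h1.mul h3, h2.mul h4⟩
    · exact Or.inr ⟨h1.mul h3, h2.mul h4⟩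
    · exact Or.inr ⟨h1.mul h4, h2.mul h3⟩
    · exact Or.inl ⟨h1.mul h4, h2.mul h3⟩
  | inv x _ hx =>
    rcases hx with ⟨h1, h2⟩ | ⟨h1, h2⟩
    · exact Or.inl ⟨h1.inv, h2.inv⟩
    · exact Or.inr ⟨h2.inv, h1.inv⟩

theorem Pair.not_both (h : Pair a b) {q : Equiv.Perm (Fin 4060)} (h1 : Sw a a q) (h2 : Sw a b q) : False := by
  obtain ⟨x, hx⟩ := h.ne
  exact hx ((h1 x).symm.trans (h2 x))

theorem Pair.mul (h : Pair a b) {p q : Equiv.Perm (Fin 4060)} (hp : p ∈ Q) (hq : q ∈ Q) :
    Sw a a (p * q) ↔ (Sw a a p ↔ Sw a a q) := by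
  rcases h.dich hp with ⟨h1, h2⟩ | ⟨h1, h2⟩ <;> rcases h.dich hq with ⟨h3, h4⟩ | ⟨h3, h4⟩
  · exact ⟨fun _ => ⟨fun _ => h3, fun _ => h1⟩, fun _ => h1.mul h3⟩
  · exact ⟨fun h' => (h.not_both h' (h1.mul h3)).elim, fun h' => (h.not_both (h'.1 h1) h3).elim⟩
  · exact ⟨fun h' => (h.not_both h' (h1.mul h4)).elim, fun h' => (h.not_both (h'.2 h3) h1).elim⟩
  · exact ⟨fun _ => ⟨fun h' => (h.not_both h' h1).elim, fun h' => (h.not_both h' h3).elim⟩, fun _ => h1.mul h4⟩

theorem Pair.inv (h : Pair a b) {p : Equiv.Perm (Fin 4060)} (hp : p ∈ Q) : Sw a a p⁻¹ ↔ Sw a a p := by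
  have h1 := h.mul (Q.inv_mem hp) hp
  rw [inv_mul_cancel] at h1
  exact h1.1 fun _ => rfl

/-! ### the pairs -/

/-- half of the orbit of length 8 -/
def mA : ℕ := Nat.lor (Nat.lor (Nat.pow 2 189) (Nat.pow 2 2088)) (Nat.lor (Nat.pow 2 2337) (Nat.pow 2 3566))

/-- the other half of the orbit of length 8 -/
def mB : ℕ := Nat.lor (Nat.lor (Nat.pow 2 2338) (Nat.pow 2 2430)) (Nat.lor (Nat.pow 2 3003) (Nat.pow 2 3510))

def mz1 : ℕ := Nat.pow 2 297
def mz2 : ℕ := Nat.pow 2 2606

theorem kA : Nat.beq (appMF k1 mB) mA = true := by decide +kernel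
theorem kB : Nat.beq (appMF k1 mA) mB = true := by decide +kernel
theorem gA : Nat.beq (appMF g2 mA) mA = true := by decide +kernel
theorem gB : Nat.beq (appMF g2 mB) mB = true := by decide +kernel

theorem kz1 : Nat.beq (appMF k1 mz1) mz1 = true := by decide +kernel
theorem kz2 : Nat.beq (appMF k1 mz2) mz2 = true := by decide +kernel
theorem gz1 : Nat.beq (appMF g2 mz2) mz1 = true := by decide +kernel
theorem gz2 : Nat.beq (appMF g2 mz1) mz2 = true := by decide +kernel

theorem pairA : Pair mA mB where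
  hk := Or.inr ⟨sw_of _ kA, sw_of _ kB⟩
  hg := Or.inl ⟨sw_of _ gA, sw_of _ gB⟩
  ne := ⟨⟨189, by norm_num⟩, by decide +kernel⟩

theorem pairZ : Pair mz1 mz2 where
  hk := Or.inl ⟨sw_of _ kz1, sw_of _ kz2⟩
  hg := Or.inr ⟨sw_of _ gz1, sw_of _ gz2⟩
  ne := ⟨⟨297, by norm_num⟩, by decide +kernel⟩


/-! ### the orbits of `Q` on the 1755 points -/

/-- `Q` as a subgroup of `T` -/
def QT : Subgroup T := Q.subgroupOf T

theorem mem_QT {t : T} : t ∈ QT ↔ (t : Equiv.Perm (Fin 4060)) ∈ Q := Subgroup.mem_subgroupOf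

theorem card_QT : Nat.card QT = 2048 := by
  rw [QT, Nat.card_congr (Subgroup.subgroupOfEquivOfLe Q_le_T).toEquiv, card_Q]

/-- the length of the orbit of a point -/
noncomputable def len (x : X) : ℕ := (stabilizer T x).relIndex QT

theorem len_eq (x : X) : len x = Nat.card (orbit QT x) := by
  have h1 := index_stabilizer (G := QT) x
  rw [Nat.card_coe_set_eq, ← h1]
  rfl

/-- the length of an orbit given by a mask -/
theorem len_of_mask {m c : ℕ} {b : Fin 4060} {k : ℕ} (hinv : ∀ q ∈ Q, Sw m m q)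
    (htr : Nat.beq (iterF [k1, g2] k (Nat.pow 2 b)) m = true) (hc : Nat.beq (popc 12 m) c = true)
    (hlt : Nat.blt m (Nat.pow 2 4060) = true) (hrow : Nat.beq (Nat.land m (row 0)) m = true) {x : X}
    (hx : m.testBit x.1 = true) : len x = c := by
  classical
  rw [len_eq]
  have h1 : ∀ y : X, y ∈ orbit QT x ↔ m.testBit y.1 = true := by
    intro y
    constructor
    · rintro ⟨q, rfl⟩
      show m.testBit (((q : T) • x : X)).1 = true
      rw [H707.RowTitsModel.smul_val, hinv _ (mem_QT.1 q.2)]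
      exact hx
    · intro hy
      obtain ⟨q1, hq1, e1⟩ := exists_of_iterF gensQ htr hx
      obtain ⟨q2, hq2, e2⟩ := exists_of_iterF gensQ htr hy
      have h3 : q2 * q1⁻¹ ∈ Q := Q.mul_mem hq2 (Q.inv_mem hq1)
      refine ⟨⟨⟨q2 * q1⁻¹, Q_le_T h3⟩, mem_QT.2 h3⟩, ?_⟩
      apply Subtype.ext
      show (q2 * q1⁻¹) x.1 = y.1
      rw [Equiv.Perm.mul_apply, ← e1]
      have e3 : q1⁻¹ (q1 b) = b := q1.symm_apply_apply b
      rw [e3, e2]
  have h2 : orbit QT x = ((Finset.univ.filter fun y : X => m.testBit y.1 = true : Finset X) : Set X) := by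
    ext y
    rw [h1]
    simp only [_root_.Finset.coe_filter, _root_.Finset.mem_univ, _root_.true_and, _root_.Set.mem_ofPred_eq]
  rw [h2, Nat.card_coe_set_eq, Set.ncard_coe_finset]
  refine card_class m c hc hlt ?_ _ ?_
  · intro y hy
    have e : Nat.land m (row 0) = m &&& row 0 := rfl
    rw [e] at hrow
    rw [← Nat.eq_of_beq_eq_true hrow, Nat.testBit_and, Bool.and_eq_true] at hy
    exact hy.2
  · intro y
    simp only [_root_.Finset.mem_filter, _root_.Finset.mem_univ, _root_.true_and]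

/-- the orbit of length 8 -/
def m8 : ℕ := Nat.lor mA mB

theorem m8_tr : Nat.beq (iterF [k1, g2] 4 (Nat.pow 2 189)) m8 = true := by decide +kernel
theorem mz_tr : Nat.beq (iterF [k1, g2] 1 (Nat.pow 2 297)) mz = true := by decide +kernel
theorem m8_c : Nat.beq (popc 12 m8) 8 = true := by decide +kernel
theorem m8_lt : Nat.blt m8 (Nat.pow 2 4060) = true := by decide +kernel
theorem mz_lt : Nat.blt mz (Nat.pow 2 4060) = true := by decide +kernel
theorem m8_row : Nat.beq (Nat.land m8 (row 0)) m8 = true := by decide +kernel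
theorem mz_row : Nat.beq (Nat.land mz (row 0)) mz = true := by decide +kernel
theorem c10_eq : Nat.beq (cm 1) (Nat.lor mz m8) = true := by decide +kernel

theorem m8_inv (q : Equiv.Perm (Fin 4060)) (hq : q ∈ Q) : Sw m8 m8 q := by
  intro x
  have e : m8 = mA ||| mB := rfl
  rw [e, Nat.testBit_or, Nat.testBit_or]
  rcases pairA.dich hq with ⟨h1, h2⟩ | ⟨h1, h2⟩
  · rw [h1, h2]
  · rw [h1, h2, Bool.or_comm]

theorem len_z {x : X} (hx : mz.testBit x.1 = true) : len x = 2 :=
  len_of_mask (b := ⟨297, by norm_num⟩) mz_inv mz_tr popc_mz mz_lt mz_row hx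

theorem len_8 {x : X} (hx : m8.testBit x.1 = true) : len x = 8 :=
  len_of_mask (b := ⟨189, by norm_num⟩) m8_inv m8_tr m8_c m8_lt m8_row hx

theorem act_refl (s : T) (x : X) : s • x = (MulEquiv.refl T) s • x := rfl

theorem len_0 {x : X} (hx : _root_.Cfsg.Agent.H707.RowTitsModel.cls x = 0) : len x = 1 := by
  have h1 := EBPts.cls_eq_zero hx
  rw [len, Subgroup.relIndex_eq_one]
  intro t ht
  rw [h1, mem_stabilizer_iff]
  apply Subtype.ext
  exact (Q_le (mem_QT.1 ht)).2

theorem QT_le : QT ≤ stabilizer T (r 0) := by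
  intro t ht
  rw [mem_stabilizer_iff]
  apply Subtype.ext
  exact (Q_le (mem_QT.1 ht)).2

theorem len_big {x : X} (hx : 80 ≤ ks (_root_.Cfsg.Agent.H707.RowTitsModel.cls x)) : 16 ≤ len x := by
  have h1 := Subgroup.card_mul_index (QT.subgroupOf (stabilizer T (r 0)))
  rw [Nat.card_congr (Subgroup.subgroupOfEquivOfLe QT_le).toEquiv, card_QT, EBPts.card_stab act_refl] at h1
  have h2 : QT.relIndex (stabilizer T (r 0)) = (QT.subgroupOf (stabilizer T (r 0))).index := rfl
  have h3 : (stabilizer T x).relIndex (stabilizer T (r 0)) = ks (_root_.Cfsg.Agent.H707.RowTitsModel.cls x) := by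
    rw [← EBPts.card_orbit act_refl x, Nat.card_coe_set_eq]
    exact index_stabilizer (G := stabilizer T (r 0)) x
  have h4 : (stabilizer T x).relIndex (stabilizer T (r 0)) ≤ (stabilizer T x ⊓ QT).relIndex (stabilizer T (r 0)) :=
    Subgroup.relIndex_le_of_le_left inf_le_left Subgroup.index_ne_zero_of_finite
  have h5 := Subgroup.relIndex_mul_relIndex (stabilizer T x ⊓ QT) QT (stabilizer T (r 0)) inf_le_right QT_le
  rw [Subgroup.inf_relIndex_right] at h5
  have h6 : QT.relIndex (stabilizer T (r 0)) = 5 := by omega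
  rw [h6] at h5
  rw [h3] at h4
  rw [len]
  omega

/-- the kinds of points -/
theorem kinds (x : X) : len x = 1 ∨ mz.testBit x.1 = true ∨ m8.testBit x.1 = true ∨ 16 ≤ len x := by
  by_cases h0 : _root_.Cfsg.Agent.H707.RowTitsModel.cls x = 0
  · exact Or.inl (len_0 h0)
  by_cases h1 : _root_.Cfsg.Agent.H707.RowTitsModel.cls x = 1
  · have h2 := _root_.Cfsg.Agent.H707.RowTitsModel.cls_spec x
    rw [h1, Nat.eq_of_beq_eq_true c10_eq] at h2
    have e : Nat.lor mz m8 = mz ||| m8 := rfl
    rw [e, Nat.testBit_or, Bool.or_eq_true] at h2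
    rcases h2 with h2 | h2
    · exact Or.inr (Or.inl h2)
    · exact Or.inr (Or.inr (Or.inl h2))
  · refine Or.inr (Or.inr (Or.inr (len_big ?_)))
    have key : ∀ i : Fin 5, i ≠ 0 → i ≠ 1 → 80 ≤ ks i := by decide
    exact key _ h0 h1

theorem mz_of_len {x : X} (h : len x = 2) : mz.testBit x.1 = true := by
  rcases kinds x with h1 | h1 | h1 | h1
  · omega
  · exact h1
  · have := len_8 h1
    omega
  · omega

theorem m8_of_len {x : X} (h : len x = 8) : m8.testBit x.1 = true := by
  rcases kinds x with h1 | h1 | h1 | h1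
  · omega
  · have := len_z h1
    omega
  · exact h1
  · omega

/-! ### automorphisms preserving `Q` -/

section aut

variable {β : MulAut T} (hβ : QT.map β.toMonoidHom = QT)

include hβ

theorem map_QT (t : T) : β t ∈ QT ↔ t ∈ QT := by
  constructor
  · intro h
    rw [← hβ] at h
    obtain ⟨s, hs, hst⟩ := h
    have : s = t := β.injective hst
    rwa [← this]
  · intro h
    rw [← hβ]
    exact ⟨t, h, rfl⟩

theorem exists_img (x : X) : ∃ y : X, (∀ t : T, β t • y = y ↔ t • x = x) ∧ len y = len x := by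
  obtain ⟨y, hy⟩ := EBPts.exists_pt act_refl ((stabilizer T x).map β.toMonoidHom) (by
    rw [Nat.card_congr ((stabilizer T x).equivMapOfInjective _ β.injective).toEquiv.symm, EBPts.card_stab act_refl])
  refine ⟨y, fun t => ?_, ?_⟩
  · have h1 : β t ∈ stabilizer T y ↔ t ∈ stabilizer T x := by
      rw [← hy]
      constructor
      · rintro ⟨s, hs, hst⟩
        have : s = t := β.injective hst
        rwa [← this]
      · intro h
        exact ⟨t, h, rfl⟩
    exact h1
  · rw [len, len, ← hy, ← hβ, Subgroup.relIndex_map_map_of_injective _ _ β.injective, hβ]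

/-- the elements of `Q` fixing a point of the orbit of length 8 preserve the halves -/
theorem sw_of_fix {q : Equiv.Perm (Fin 4060)} (hq : q ∈ Q) {y : Fin 4060} (hy : m8.testBit y = true) (hf : q y = y) :
    Sw mA mA q := by
  rcases pairA.dich hq with ⟨h1, -⟩ | ⟨h1, h2⟩
  · exact h1
  · exfalso
    have h3 := h1 y
    rw [hf] at h3
    have e : m8 = mA ||| mB := rfl
    rw [e, Nat.testBit_or, h3, Bool.or_self] at hy
    have h4 : mA.testBit y = true := by rw [h3, hy]
    have h5 : (mA &&& mB).testBit y = true := by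
      rw [Nat.testBit_and, h4, hy]
      rfl
    have h6 : mA &&& mB = 0 := by decide +kernel
    rw [h6, Nat.zero_testBit] at h5
    exact Bool.noConfusion h5

end aut

theorem g189 : Nat.beq (appF g2 189) 189 = true := by decide +kernel
theorem m8_189 : tb m8 189 = true := by decide +kernel
theorem row_189 : tb (row 0) 189 = true := by decide +kernel
theorem row_297 : tb (row 0) 297 = true := by decide +kernel

/-- the point 189 -/
def x189 : X := ⟨⟨189, by norm_num⟩, by have := row_189; rwa [tb_eq] at this⟩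

/-- the point 297 -/
def x297 : X := ⟨z, by have := row_297; rwa [tb_eq] at this⟩

/-- the generators in `T` -/
noncomputable def kT : T := ⟨perm qk.1, Q_le_T qk.2⟩
noncomputable def gT : T := ⟨perm qg.1, Q_le_T qg.2⟩

theorem kT_mem : kT ∈ QT := mem_QT.2 qk.2
theorem gT_mem : gT ∈ QT := mem_QT.2 qg.2

/-- induction in `QT` for multiplicative predicates -/
theorem induct {P : T → Prop} (h1 : P 1) (hmul : ∀ s t : T, s ∈ QT → t ∈ QT → P s → P t → P (s * t))
    (hinv : ∀ s : T, s ∈ QT → P s → P s⁻¹) (hk : P kT) (hg : P gT) {t : T} (ht : t ∈ QT) : P t := by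
  have key : ∀ q : Equiv.Perm (Fin 4060), q ∈ Q → ∀ hq : q ∈ T, P ⟨q, hq⟩ := by
    intro q hq
    induction hq using Subgroup.closure_induction with
    | mem x hx =>
      intro hT
      rcases hx with rfl | rfl
      · exact hk
      · exact hg
    | one =>
      intro hT
      exact h1
    | mul x y hx hy ihx ihy =>
      intro hT
      exact hmul ⟨x, Q_le_T hx⟩ ⟨y, Q_le_T hy⟩ (mem_QT.2 hx) (mem_QT.2 hy) (ihx _) (ihy _)
    | inv x hx ihx =>
      intro hT
      exact hinv ⟨x, Q_le_T hx⟩ (mem_QT.2 hx) (ihx _)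
  exact key t.1 (mem_QT.1 ht) t.2

theorem mz1_iff (y : Fin 4060) : mz1.testBit y = true ↔ (y : ℕ) = 297 := by
  have e : mz1 = 2 ^ 297 := rfl
  rw [e, Nat.testBit_two_pow, decide_eq_true_eq]
  exact eq_comm

theorem mz2_iff (y : Fin 4060) : mz2.testBit y = true ↔ (y : ℕ) = 2606 := by
  have e : mz2 = 2 ^ 2606 := rfl
  rw [e, Nat.testBit_two_pow, decide_eq_true_eq]
  exact eq_comm

theorem fix_iff {q : Equiv.Perm (Fin 4060)} (hq : q ∈ Q) {y : Fin 4060} (hy : mz.testBit y = true) :
    q y = y ↔ Sw mz1 mz1 q := by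
  have e2 : mz = mz1 ||| mz2 := by decide +kernel
  rw [e2, Nat.testBit_or, Bool.or_eq_true] at hy
  constructor
  · intro h
    rcases pairZ.dich hq with ⟨h1, -⟩ | ⟨h1, h2⟩
    · exact h1
    · exfalso
      have h3 := h1 y
      rw [h] at h3
      have h4 : mz1.testBit y = true ∧ mz2.testBit y = true := by
        rcases hy with hy | hy
        · exact ⟨hy, by rw [← h3, hy]⟩
        · exact ⟨by rw [h3, hy], hy⟩
      have h5 := (mz1_iff y).1 h4.1
      have h6 := (mz2_iff y).1 h4.2
      omega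
  · intro h
    rcases pairZ.dich hq with ⟨h1, h2⟩ | ⟨h1, -⟩
    · rcases hy with hy | hy
      · have h3 := h1 y
        rw [hy] at h3
        exact Fin.ext (((mz1_iff _).1 h3).trans ((mz1_iff _).1 hy).symm)
      · have h3 := h2 y
        rw [hy] at h3
        exact Fin.ext (((mz2_iff _).1 h3).trans ((mz2_iff _).1 hy).symm)
    · exact (pairZ.not_both h h1).elim

section aut2

variable {β : MulAut T} (hβ : QT.map β.toMonoidHom = QT)

include hβ

/-- the stabiliser of 297 in `Q` is invariant -/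
theorem inv_z {t : T} (ht : t ∈ QT) : Sw mz1 mz1 (β t : T).1 ↔ Sw mz1 mz1 t.1 := by
  obtain ⟨y, hy, hy2⟩ := exists_img hβ x297
  have hz : mz.testBit x297.1 = true := by
    have := mz_z
    rwa [tb_eq] at this
  have hm : mz.testBit y.1 = true := mz_of_len (hy2.trans (len_z hz))
  rw [← fix_iff (mem_QT.1 ht) hz, ← fix_iff (mem_QT.1 ((map_QT hβ _).2 ht)) hm]
  constructor
  · intro h
    exact congrArg Subtype.val ((hy t).1 (Subtype.ext h))
  · intro h
    exact congrArg Subtype.val ((hy t).2 (Subtype.ext h))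

/-- the halves of the orbit of length 8 are invariant -/
theorem inv_A {t : T} (ht : t ∈ QT) : Sw mA mA (β t : T).1 ↔ Sw mA mA t.1 := by
  obtain ⟨y, hy, hy8⟩ := exists_img hβ x189
  have hm : m8.testBit y.1 = true := m8_of_len (hy8.trans (len_8 (by have := m8_189; rwa [tb_eq] at this)))
  have hgf : gT • x189 = x189 := by
    apply Subtype.ext
    apply Fin.ext
    show app g2 189 = 189
    rw [← appF_eq]
    exact Nat.eq_of_beq_eq_true g189
  have hβQ : ∀ {s : T}, s ∈ QT → (β s : T).1 ∈ Q := fun hs => mem_QT.1 ((map_QT hβ _).2 hs)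
  have hg1 : Sw mA mA (β gT : T).1 := sw_of_fix hβ (hβQ gT_mem) hm (congrArg Subtype.val ((hy gT).2 hgf))
  have hg0 : Sw mA mA gT.1 := sw_of qg.1 gA
  have hk0 : ¬ Sw mA mA kT.1 := fun h => pairA.not_both h (sw_of qk.1 kA)
  have hk1 : ¬ Sw mA mA (β kT : T).1 := by
    intro h
    have key : ∀ s ∈ QT, Sw mA mA (β s : T).1 := by
      intro s hs
      refine induct (P := fun s => Sw mA mA (β s : T).1) ?_ ?_ ?_ h hg1 hs
      · rw [map_one]
        exact fun _ => rfl
      · intro s t hs ht h1 h2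
        rw [map_mul]
        exact (pairA.mul (hβQ hs) (hβQ ht)).2 ⟨fun _ => h2, fun _ => h1⟩
      · intro s hs h1
        rw [map_inv]
        exact (pairA.inv (hβQ hs)).2 h1
    have h2 := key (β.symm kT) (by
      rw [← map_QT hβ, MulEquiv.apply_symm_apply]
      exact kT_mem)
    rw [MulEquiv.apply_symm_apply] at h2
    exact hk0 h2
  refine induct (P := fun s => Sw mA mA (β s : T).1 ↔ Sw mA mA s.1) ?_ ?_ ?_ ?_ ?_ ht
  · rw [map_one]
  · intro s t hs ht h1 h2
    rw [map_mul]
    have e1 := pairA.mul (hβQ hs) (hβQ ht)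
    have e2 := pairA.mul (mem_QT.1 hs) (mem_QT.1 ht)
    exact e1.trans ((iff_congr h1 h2).trans e2.symm)
  · intro s hs h1
    rw [map_inv]
    exact (pairA.inv (hβQ hs)).trans (h1.trans (pairA.inv (mem_QT.1 hs)).symm)
  · exact ⟨fun h => (hk1 h).elim, fun h => (hk0 h).elim⟩
  · exact ⟨fun _ => hg0, fun _ => hg1⟩

end aut2

/-! ### the homomorphism -/

/-- two predicates which are homomorphisms onto a group of order 2, independent -/
theorem exists_hom {P : Type*} [Group P] (h : Fin 2 → P → Prop) (hmul : ∀ i a b, h i (a * b) ↔ (h i a ↔ h i b))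
    (a b : P) (ha0 : ¬ h 0 a) (ha1 : h 1 a) (hb0 : h 0 b) (hb1 : ¬ h 1 b) :
    ∃ f : P →* Multiplicative (Fin 2 → ZMod 2), Function.Surjective f ∧
      ∀ x y : P, (∀ i, h i x ↔ h i y) → f x = f y := by
  classical
  have h1 : ∀ i, h i 1 := by
    intro i
    have := hmul i 1 1
    rw [mul_one] at this
    (clear * - P h i this; tauto)
  let g : P → Fin 2 → ZMod 2 := fun x i => if h i x then 0 else 1
  have hadd : ∀ x y, g (x * y) = g x + g y := by
    intro x y
    funext i
    have h2 : (1 : ZMod 2) + 1 = 0 := by decide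
    simp only [g, Pi.add_apply, hmul]
    by_cases hx : h i x <;> by_cases hy : h i y <;> simp [hx, hy, h2]
  let f : P →* Multiplicative (Fin 2 → ZMod 2) :=
    { toFun := fun x => Multiplicative.ofAdd (g x)
      map_one' := by
        have : g 1 = 0 := by
          funext i
          simp [g, h1]
        rw [this]
        rfl
      map_mul' := fun x y => by
        rw [hadd]
        rfl }
  refine ⟨f, ?_, ?_⟩
  · have hz : ∀ z : ZMod 2, z = 0 ∨ z = 1 := by decide
    have h2 : (1 : ZMod 2) + 1 = 0 := by decide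
    have key : ∀ v : Fin 2 → ZMod 2, ∃ x, g x = v := by
      intro v
      have ga : g a = ![1, 0] := by
        funext i
        fin_cases i <;> simp [g, ha0, ha1]
      have gb : g b = ![0, 1] := by
        funext i
        fin_cases i <;> simp [g, hb0, hb1]
      rcases hz (v 0) with h0 | h0 <;> rcases hz (v 1) with h3 | h3
      · refine ⟨1, funext fun i => ?_⟩
        fin_cases i
        · simpa [g, h1] using h0.symm
        · simpa [g, h1] using h3.symm
      · refine ⟨b, ?_⟩
        rw [gb]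
        funext i
        fin_cases i
        · exact h0.symm
        · exact h3.symm
      · refine ⟨a, ?_⟩
        rw [ga]
        funext i
        fin_cases i
        · exact h0.symm
        · exact h3.symm
      · refine ⟨a * b, ?_⟩
        rw [hadd, ga, gb]
        funext i
        fin_cases i
        · simpa using h0.symm
        · simpa using h3.symm
    intro v
    obtain ⟨x, hx⟩ := key (Multiplicative.toAdd v)
    refine ⟨x, ?_⟩
    show Multiplicative.ofAdd (g x) = v
    rw [hx]
    rfl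
  · intro x y hxy
    show Multiplicative.ofAdd (g x) = Multiplicative.ofAdd (g y)
    congr 1
    funext i
    simp only [g, hxy i]

/-- the two predicates -/
def hT : Fin 2 → T → Prop := ![fun t => Sw mz1 mz1 t.1, fun t => Sw mA mA t.1]

theorem exists_equiv {S : Type*} [Group S] [Finite S] (e : T ≃* S) (P : Sylow 2 S) :
    ∃ e' : T ≃* S, QT.map e'.toMonoidHom = (P : Subgroup S) := by
  have : Fact (Nat.Prime 2) := ⟨Nat.prime_two⟩
  have hc : Nat.card QT = 2 ^ (Nat.card T).factorization 2 := by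
    rw [card_QT, card_T]
    have h1 : (17971200 : ℕ) = 2 ^ 11 * 8775 := by norm_num
    have h2 : Nat.factorization (2 ^ 11 * 8775) 2 = 11 := by
      rw [Nat.factorization_mul (by norm_num) (by norm_num), Nat.factorization_pow]
      rw [Finsupp.add_apply, Finsupp.smul_apply, Nat.prime_two.factorization_self]
      rw [Nat.factorization_eq_zero_of_not_dvd (by norm_num)]
      norm_num
    rw [h1, h2]
    norm_num
  let P₀ : Sylow 2 T := Sylow.ofCard QT hc
  have hP' : Nat.card ((P : Subgroup S).map e.symm.toMonoidHom) = 2 ^ (Nat.card T).factorization 2 := by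
    rw [Nat.card_congr ((P : Subgroup S).equivMapOfInjective _ e.symm.injective).toEquiv.symm,
      Nat.card_congr e.toEquiv]
    exact P.card_eq_multiplicity
  let P' : Sylow 2 T := Sylow.ofCard _ hP'
  obtain ⟨t, ht⟩ := MulAction.exists_smul_eq T P₀ P'
  have h1 : QT.map (MulAut.conj t).toMonoidHom = (P : Subgroup S).map e.symm.toMonoidHom :=
    congrArg Sylow.toSubgroup ht
  refine ⟨(MulAut.conj t).trans e, ?_⟩
  have h2 : ((MulAut.conj t).trans e).toMonoidHom = e.toMonoidHom.comp (MulAut.conj t).toMonoidHom := rfl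
  rw [h2, ← Subgroup.map_map, h1, Subgroup.map_map]
  have h3 : e.toMonoidHom.comp e.symm.toMonoidHom = MonoidHom.id S := by
    ext x
    exact e.apply_symm_apply x
  rw [h3, Subgroup.map_id]

/-- **A homomorphism of the Sylow 2-subgroups onto the four-group, invariant under all automorphisms.** -/
theorem exists_f {S : Type*} [Group S] [Finite S] (e : T ≃* S) (P : Sylow 2 S) (α : MulAut S)
    (hα : (P : Subgroup S).map α.toMonoidHom = P) : ∃ f : P →* Multiplicative (Fin 2 → ZMod 2),
      Function.Surjective f ∧ ∀ x y : P, (y : S) = α x → f y = f x := by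
  obtain ⟨e', he'⟩ := exists_equiv e P
  have hmem : ∀ x : P, e'.symm x ∈ QT := by
    intro x
    have h1 : (x : S) ∈ QT.map e'.toMonoidHom := by
      rw [he']
      exact x.2
    obtain ⟨t, ht, htx⟩ := h1
    have h2 : e'.symm x = t := by
      rw [← htx]
      exact e'.symm_apply_apply t
    rwa [h2]
  have hmemP : ∀ {t : T}, t ∈ QT → e' t ∈ (P : Subgroup S) := by
    intro t ht
    rw [← he']
    exact ⟨t, ht, rfl⟩
  let β : MulAut T := (e'.trans α).trans e'.symm
  have hβ : QT.map β.toMonoidHom = QT := by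
    have h2 : β.toMonoidHom = (e'.symm.toMonoidHom.comp α.toMonoidHom).comp e'.toMonoidHom := rfl
    rw [h2, ← Subgroup.map_map, he', ← Subgroup.map_map, hα, ← he', Subgroup.map_map]
    have h3 : e'.symm.toMonoidHom.comp e'.toMonoidHom = MonoidHom.id T :=
      MonoidHom.ext fun x => e'.symm_apply_apply x
    rw [h3, Subgroup.map_id]
  obtain ⟨f, hf, hf'⟩ := exists_hom (P := P) (fun i x => hT i (e'.symm x)) (by
      intro i a b
      have h1 : e'.symm ((a * b : P) : S) = e'.symm a * e'.symm b := by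
        rw [Subgroup.coe_mul, map_mul]
      show hT i (e'.symm ((a * b : P) : S)) ↔ _
      rw [h1]
      fin_cases i
      · exact pairZ.mul (mem_QT.1 (hmem a)) (mem_QT.1 (hmem b))
      · exact pairA.mul (mem_QT.1 (hmem a)) (mem_QT.1 (hmem b)))
    ⟨e' gT, hmemP gT_mem⟩ ⟨e' kT, hmemP kT_mem⟩ (by
      show ¬ Sw mz1 mz1 (e'.symm (e' gT)).1
      rw [e'.symm_apply_apply]
      exact fun h => pairZ.not_both h (sw_of qg.1 gz1)) (by
      show Sw mA mA (e'.symm (e' gT)).1
      rw [e'.symm_apply_apply]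
      exact sw_of qg.1 gA) (by
      show Sw mz1 mz1 (e'.symm (e' kT)).1
      rw [e'.symm_apply_apply]
      exact sw_of qk.1 kz1) (by
      show ¬ Sw mA mA (e'.symm (e' kT)).1
      rw [e'.symm_apply_apply]
      exact fun h => pairA.not_both h (sw_of qk.1 kA))
  refine ⟨f, hf, fun x y hxy => hf' y x fun i => ?_⟩
  have h1 : e'.symm (y : S) = β (e'.symm x) := by
    rw [hxy]
    show _ = e'.symm (α (e' (e'.symm x)))
    rw [e'.apply_symm_apply]
  show hT i (e'.symm (y : S)) ↔ hT i (e'.symm (x : S))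
  rw [h1]
  fin_cases i
  · exact inv_z hβ (hmem x)
  · exact inv_A hβ (hmem x)

end Cfsg.Agent.H189.K547.TitsInv

/-!
# The Tits group: three characters invariant under all automorphisms (helper189, S4547)

The constituents of degree 1, 351, 675 of the permutation character on the 1755 subgroups of order 10240.
-/

set_option autoImplicit false
set_option maxRecDepth 100000

namespace Cfsg.Agent.H189.K547.TitsChar

open Cfsg Cfsg.Agent.Characters Cfsg.Agent.H694
open scoped ComplexConjugate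
open Cfsg.Agent.Characters.Core
open Cfsg.Agent.H610 Cfsg.Agent.H610.EB
open Cfsg.Agent.H707.RowTitsModel Cfsg.Agent.H600.EBOrb Cfsg.Agent.H600
open Cfsg.Agent.SporadicB.RuTits
open Cfsg.Agent.H601.K4 Cfsg.Agent.H821.K547
open MulAction

universe u

/-- five constituents of a character of norm at most 5 are all of them -/
theorem eq_of_five {G : Type u} [Group G] [Fintype G] {π : G → ℂ} (hπ : IsCharacter G π) {q : ℕ} (hq5 : q ≤ 5)
    (hq : classInner π π = q) (f : Fin 5 → IrrCharacter G) (hf : Function.Injective f)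
    (hf' : ∀ i, classInner π (f i : G → ℂ) ≠ 0) (θ : IrrCharacter G) (hθ : classInner π (θ : G → ℂ) ≠ 0) :
    ∃ i, θ = f i := by
  classical
  have : Finite (IrrCharacter G) := finite_irr
  let _ : Fintype (IrrCharacter G) := Fintype.ofFinite _
  have hm0 : ∀ χ : IrrCharacter G, ∃ n : ℕ, classInner π (χ : G → ℂ) = n := fun χ =>
    classInner_isNat hπ (isIrr_isCharacter χ.2)
  choose m hm using hm0
  have h1 := EBCnt.sum_sq (isCharacter_isClassFunction hπ) m hm hq
  have hpos : ∀ χ : IrrCharacter G, classInner π (χ : G → ℂ) ≠ 0 → 1 ≤ m χ ^ 2 := by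
    intro χ hχ
    rw [hm] at hχ
    exact Nat.one_le_iff_ne_zero.2 fun h => hχ (by rw [pow_eq_zero_iff two_ne_zero] at h; rw [h]; simp)
  by_contra hne
  push Not at hne
  have h2 : (insert θ (Finset.univ.map ⟨f, hf⟩) : Finset (IrrCharacter G)).card = 6 := by
    rw [Finset.card_insert_of_notMem, Finset.card_map, Finset.card_univ, Fintype.card_fin]
    simp only [Finset.mem_map, Finset.mem_univ, true_and, Function.Embedding.coeFn_mk, not_exists]
    exact fun i h => hne i h.symm
  have h3 : (insert θ (Finset.univ.map ⟨f, hf⟩) : Finset (IrrCharacter G)).card • 1 ≤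
      ∑ χ ∈ (insert θ (Finset.univ.map ⟨f, hf⟩) : Finset (IrrCharacter G)), m χ ^ 2 := by
    refine Finset.card_nsmul_le_sum _ _ _ fun χ hχ => hpos χ ?_
    rcases Finset.mem_insert.1 hχ with rfl | hχ
    · exact hθ
    · obtain ⟨i, -, rfl⟩ := Finset.mem_map.1 hχ
      exact hf' i
  rw [h2, smul_eq_mul] at h3
  have h4 := h3.trans (Finset.sum_le_sum_of_subset (Finset.subset_univ _))
  rw [h1] at h4
  omega

/-- the degrees -/
def deg5 : Fin 5 → ℕ := ![1, 78, 351, 650, 675]

theorem deg5_inj : Function.Injective deg5 := by decide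

section S

variable {S : Type u} [Group S] [Fintype S] {e : S ≃* T} [MulAction S X] (hact : ∀ (s : S) (x : X), s • x = e s • x)

include hact

theorem exists_gamma :
    ∃ χ : IrrCharacter S, charDegree (χ : S → ℂ) = 351 ∧ classInner (permC S X) (χ : S → ℂ) ≠ 0 := by
  have := EBPts.pret hact
  exact EBSph.exists_of_graph_rat E10 (EBPts.E10_act hact) (r 0) _root_.Cfsg.Agent.H707.RowTitsModel.cls r (EBPts.cls_act hact) (EBPts.htr hact) B' EBOrb.count
    ks count_cls 0 (cls_r 0) ![1, 1/2, 1/8, 0, -1/64] 5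
    ![![0,0,0,0,0], ![1/10,0,0,0,0], ![1/20,1/8,0,0,0], ![1/80,1/16,1/8,0,0], ![0,1/64,1/16,1/8,0]]
    351 1755 card_X (by decide +kernel) (by decide +kernel) (by decide +kernel) (by decide +kernel)

theorem exists_delta :
    ∃ χ : IrrCharacter S, charDegree (χ : S → ℂ) = 675 ∧ classInner (permC S X) (χ : S → ℂ) ≠ 0 := by
  have := EBPts.pret hact
  exact EBSph.exists_of_graph_rat E10 (EBPts.E10_act hact) (r 0) _root_.Cfsg.Agent.H707.RowTitsModel.cls r (EBPts.cls_act hact) (EBPts.htr hact) B' EBOrb.count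
    ks count_cls 0 (cls_r 0) ![1, -3/10, 1/40, 1/40, -1/64] (-3)
    ![![0,0,0,0,0], ![1/10,0,0,0,0], ![-1/20,1/8,0,0,0], ![1/80,-1/16,1/8,0,0], ![0,1/64,-1/16,1/8,0]]
    675 1755 card_X (by decide +kernel) (by decide +kernel) (by decide +kernel) (by decide +kernel)

theorem exists_five : ∃ f : Fin 5 → IrrCharacter S, ∀ i, charDegree (f i : S → ℂ) = deg5 i ∧
    classInner (permC S X) (f i : S → ℂ) ≠ 0 := by
  obtain ⟨ε, hε⟩ := EBTits.exists_eps (S := S)
  obtain ⟨α, hα⟩ := EBTits.exists_alpha hact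
  obtain ⟨β, hβ⟩ := EBTits.exists_beta hact
  obtain ⟨γ, hγ⟩ := exists_gamma hact
  obtain ⟨δ, hδ⟩ := exists_delta hact
  refine ⟨![ε, α, γ, β, δ], fun i => ?_⟩
  fin_cases i
  exacts [hε, hα, hγ, hβ, hδ]

/-- uniqueness by the degree -/
theorem exists_uniq : ∃ f : Fin 5 → IrrCharacter S, (∀ i, charDegree (f i : S → ℂ) = deg5 i ∧
    classInner (permC S X) (f i : S → ℂ) ≠ 0) ∧ ∀ (i : Fin 5) (θ : IrrCharacter S), charDegree (θ : S → ℂ) = deg5 i →
      classInner (permC S X) (θ : S → ℂ) ≠ 0 → θ = f i := by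
  obtain ⟨q, hq5, hq⟩ := EBTits.rank_le hact
  obtain ⟨f, hf⟩ := exists_five hact
  refine ⟨f, hf, fun i θ h1 h2 => ?_⟩
  have hinj : Function.Injective f := by
    intro a b hab
    apply deg5_inj
    rw [← (hf a).1, ← (hf b).1, hab]
  obtain ⟨j, rfl⟩ := eq_of_five (Cfsg.Agent.S0157.isCharacter_fixedBy X) hq5 hq f hinj (fun i => (hf i).2) θ h2
  congr 1
  apply deg5_inj
  rw [← h1, (hf j).1]

/-- the permutation character is invariant under automorphisms -/
theorem permC_aut (τ : MulAut S) (s : S) : permC S X (τ s) = permC S X s := by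
  rw [← EBTits.permS_eq_permC hact]
  show (Nat.card {H : Subgroup S // H ∈ EBTits.XX S ∧ H.map (MulAut.conj (τ s)).toMonoidHom = H} : ℂ) =
    (Nat.card {H : Subgroup S // H ∈ EBTits.XX S ∧ H.map (MulAut.conj s).toMonoidHom = H} : ℂ)
  congr 1
  symm
  have hc : ∀ H : Subgroup S, (H.map (MulAut.conj s).toMonoidHom).map τ.toMonoidHom =
      (H.map τ.toMonoidHom).map (MulAut.conj (τ s)).toMonoidHom := by
    intro H
    rw [Subgroup.map_map, Subgroup.map_map]
    congr 1
    ext x
    simp only [_root_.MulEquiv.toMonoidHom_eq_coe, _root_.MonoidHom.coe_comp, _root_.MonoidHom.coe_coe, _root_.Function.comp_apply, _root_.MulAut.conj_apply, _root_.map_mul, _root_.map_inv]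
  refine Nat.card_congr (Equiv.subtypeEquiv (MulEquiv.mapSubgroup τ).toEquiv fun H => ?_)
  show (Nat.card H = 10240 ∧ _) ↔ (Nat.card (H.map τ.toMonoidHom) = 10240 ∧ (H.map τ.toMonoidHom).map _ = _)
  rw [← hc, Nat.card_congr (H.equivMapOfInjective _ τ.injective).toEquiv.symm]
  refine and_congr_right fun _ => ?_
  exact (Subgroup.map_injective τ.injective).eq_iff.symm

omit [Fintype S] hact in
/-- the permutation character is rational -/
theorem permC_pow {k : ℕ} (hk : k.Coprime (Nat.card S)) (s : S) : permC S X (s ^ k) = permC S X s := by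
  show (Nat.card (fixedBy X (s ^ k)) : ℂ) = (Nat.card (fixedBy X s) : ℂ)
  congr 2
  have h1 : ∀ (t : S) (m : ℕ), ∀ x : X, t • x = x → t ^ m • x = x := by
    intro t m x ht
    induction m with
    | zero => rw [pow_zero, one_smul]
    | succ m ih => rw [pow_succ, mul_smul, ht, ih]
  obtain ⟨m, hm⟩ : ∃ m : ℕ, (s ^ k) ^ m = s :=
    exists_pow_eq_self_of_coprime (Nat.Coprime.coprime_dvd_right (orderOf_dvd_natCard s) hk)
  apply congrArg
  ext x
  rw [MulAction.mem_fixedBy, MulAction.mem_fixedBy]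
  constructor
  · intro h
    have h2 := h1 (s ^ k) m x h
    rwa [hm] at h2
  · exact h1 s k x

/-- **Three good characters, invariant under all automorphisms** -/
theorem ginv3 (τ : MulAut S) : GInv3 τ := by
  obtain ⟨f, hf, huniq⟩ := exists_uniq hact
  have hS : Nat.card S ≠ 0 := Nat.card_pos.ne'
  -- invariance under automorphisms
  have haut : ∀ i, ∀ x, (f i : S → ℂ) (τ x) = (f i : S → ℂ) x := by
    intro i x
    let θ : IrrCharacter S := ⟨(f i : S → ℂ) ∘ τ.toMonoidHom, isIrr_comp τ.toMonoidHom τ.surjective (f i).2⟩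
    have h1 : θ = f i := by
      refine huniq i θ ?_ ?_
      · rw [← (hf i).1]
        show ⌊((f i : S → ℂ) (τ 1)).re⌋₊ = ⌊((f i : S → ℂ) 1).re⌋₊
        rw [map_one]
      · have h2 := Clifford.classInner_comp_mulEquiv τ (permC S X) (f i : S → ℂ)
        have h3 : permC S X ∘ τ = permC S X := funext fun s => permC_aut hact τ s
        rw [h3] at h2
        intro h4
        exact (hf i).2 (h2.symm.trans h4)
    exact congrFun (congrArg Subtype.val h1) x
  -- rational values
  have hrat : ∀ i, ∀ (k : ℕ), k.Coprime (Nat.card S) → ∀ x, (f i : S → ℂ) (x ^ k) = (f i : S → ℂ) x := by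
    intro i k hk x
    have h1 : Twist.pw hk (f i) = f i := by
      refine huniq i _ ?_ ?_
      · rw [← (hf i).1]
        show ⌊((f i : S → ℂ) (1 ^ k)).re⌋₊ = ⌊((f i : S → ℂ) 1).re⌋₊
        rw [one_pow]
      · have h2 := Twist.classInner_pow hk (permC S X) (f i : S → ℂ)
        have h3 : (fun g => permC S X (g ^ k)) = permC S X := funext fun s => permC_pow hk s
        rw [h3] at h2
        intro h4
        exact (hf i).2 (h2.symm.trans h4)
    have h2 := congrFun (congrArg Subtype.val h1) x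
    exact h2
  have hgood : ∀ i, ¬ 2 ∣ deg5 i → _root_.Cfsg.Agent.H601.K4.Good (f i : S → ℂ) := by
    intro i hi
    have hodd : OddIrr (f i : S → ℂ) := ⟨(f i).2, by rw [(hf i).1]; exact hi⟩
    refine ⟨hodd, SigFix.of_pow (hrat i), InB0.of_real hodd fun x => ?_⟩
    have h1 : (f i : S → ℂ) x⁻¹ = (f i : S → ℂ) x := by
      have hc : (Nat.card S - 1).Coprime (Nat.card S) := by
        exact (Nat.coprime_self_sub_left (Nat.one_le_iff_ne_zero.2 hS)).2 (Nat.coprime_one_left _)
      have h2 := hrat i _ hc x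
      have h3 : x ^ (Nat.card S - 1) = x⁻¹ := by
        rw [eq_inv_iff_mul_eq_one, ← pow_succ, Nat.sub_add_cancel (Nat.one_le_iff_ne_zero.2 hS), pow_card_eq_one']
      rwa [h3] at h2
    rw [isCharacter_apply_inv (isIrr_isCharacter (f i).2)] at h1
    exact Complex.conj_eq_iff_im.1 h1
  refine ⟨![(f 0 : S → ℂ), (f 2 : S → ℂ), (f 4 : S → ℂ)], ?_, ?_⟩
  · have hd : ∀ i j, (f i : S → ℂ) = (f j : S → ℂ) → i = j := by
      intro i j h
      apply deg5_inj
      rw [← (hf i).1, ← (hf j).1, h]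
    intro i j hij
    fin_cases i <;> fin_cases j <;> first | rfl | exact absurd (hd _ _ hij) (by decide)
  · intro i
    fin_cases i
    exacts [⟨hgood 0 (by decide), haut 0⟩, ⟨hgood 2 (by decide), haut 2⟩, ⟨hgood 4 (by decide), haut 4⟩]

end S

end Cfsg.Agent.H189.K547.TitsChar


set_option autoImplicit false
set_option maxRecDepth 100000

namespace Cfsg.Agent.H189.K547.Tits

open Cfsg Cfsg.Agent.H601.K4 Cfsg.Agent.H821.K547
open Cfsg.Agent.SporadicB.RuTits
open Cfsg.Agent.H707.RowTitsModel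
open MulAction

universe u

/-- squares of automorphisms are inner, from the index -/
theorem sq_inner_of_index {K : Type*} [Group K] (h : (MulAut.conj : K →* MulAut K).range.index ∣ 2) {S : Type*} [Group S]
    (e : K ≃* S) (τ : MulAut S) : ∃ s : S, ∀ x, (τ ^ 2) x = s * x * s⁻¹ := by
  have hconj : ∀ (β : MulAut K) (k : K), β * MulAut.conj k * β⁻¹ = MulAut.conj (β k) := by
    intro β k
    ext x
    show β (k * β⁻¹ x * k⁻¹) = β k * x * (β k)⁻¹
    rw [map_mul, map_mul, map_inv, MulAut.apply_inv_self]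
  have hn : ((MulAut.conj : K →* MulAut K).range).Normal := by
    refine ⟨?_⟩
    rintro _ ⟨k, rfl⟩ β
    exact ⟨β k, (hconj β k).symm⟩
  let τ' : MulAut K := (e.trans τ).trans e.symm
  have h1 : τ' ^ 2 ∈ (MulAut.conj : K →* MulAut K).range := by
    have h2 := Subgroup.pow_index_mem (MulAut.conj : K →* MulAut K).range τ'
    obtain ⟨c, hc⟩ := h
    rw [hc, pow_mul]
    exact Subgroup.pow_mem _ h2 c
  obtain ⟨k, hk⟩ := h1
  refine ⟨e k, fun x => ?_⟩
  have h2 := congrArg (fun β : MulAut K => e (β (e.symm x))) hk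
  have h3 : e ((τ' ^ 2) (e.symm x)) = (τ ^ 2) x := by
    rw [pow_two, pow_two]
    show e (e.symm (τ (e (e.symm (τ (e (e.symm x))))))) = τ (τ x)
    simp only [MulEquiv.apply_symm_apply]
  have h4 : e (MulAut.conj k (e.symm x)) = e k * x * (e k)⁻¹ := by
    rw [MulAut.conj_apply, map_mul, map_mul, map_inv, MulEquiv.apply_symm_apply]
  rw [← h3, ← h4]
  exact h2.symm

/-- **the row of a group isomorphic to `T`** -/
theorem row_of_equiv {S : Type u} [Group S] (e : T ≃* S) (e' : Nonempty (S ≃* ↥Cfsg.Agent.TitsK.TT)) : Row S := by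
  have : Finite T := Nat.finite_of_card_ne_zero (by rw [card_T]; norm_num)
  have : Finite S := Finite.of_equiv T e.toEquiv
  have : IsSimpleGroup T := isSimpleGroup_T
  have hs : IsSimpleGroup S := e.symm.isSimpleGroup
  have hna : ¬ IsMulCommutative S := by
    intro hc
    have h1 : IsMulCommutative S := hc
    have h2 : (Nat.card S).Prime := by
      let _ : CommGroup S := { (inferInstance : Group S) with mul_comm := h1.is_comm.comm }
      exact IsSimpleGroup.prime_card
    rw [← Nat.card_congr e.toEquiv, card_T] at h2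
    exact absurd h2 (by norm_num)
  obtain ⟨e'⟩ := e'
  refine ⟨Or.inr (TitsX.xcond e), fun τ _ hni => ⟨fun _ => ?_, fun _ => ?_⟩⟩
  · have hfin : Finite Cfsg.Agent.FourTwo.Base.LL := by infer_instance
    exact Ext.d3_autExt_two hna (sq_inner_of_index Cfsg.Agent.TitsK.tdata.index_inn e'.symm τ) hni
      fun P α _ hα => TitsInv.exists_f e P α hα
  · let _ : MulAction S X := MulAction.compHom X e.symm.toMonoidHom
    let _ : Fintype S := Fintype.ofFinite S
    exact TitsChar.ginv3 (e := e.symm) (fun _ _ => rfl) τ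

/-- **S4547, the row of the Tits group** -/
theorem row {S : Type u} [Group S] (h : Lie.IsoTits S) : Row S := by
  obtain ⟨e⟩ := h
  obtain ⟨f⟩ := H707.RowTits.equiv
  obtain ⟨g⟩ := Cfsg.Agent.TitsK.exists_equiv
  exact row_of_equiv (e.trans f).symm ⟨e.trans g⟩

end Cfsg.Agent.H189.K547.Tits
end

private theorem dce_f9ad2f266bef : _root_.True := by
  try have : _root_.True := by simp only [_root_.Cfsg.Agent.H189.K547.TitsX.sep.eq_1]
  try have : _root_.True := by simp only [_root_.Cfsg.Agent.H189.K547.TitsInv.len.eq_1]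
  try have : _root_.True := by simp only [_root_.Cfsg.Agent.H189.K547.TitsX.data.eq_1]
  try have : _root_.True := by simp only [_root_.Cfsg.Agent.H189.K547.TitsInv.QT.eq_1]
  try have : _root_.True := by simp only [_root_.Cfsg.Agent.H189.K547.TitsX.chk.eq_1]
  try have : _root_.True := by simp only [_root_.Cfsg.Agent.H805.K4.TitsSyl.Q.eq_1]
  try have : _root_.True := by simp only [_root_.Cfsg.Agent.H189.K547.TitsInv.induct]
  exact _root_.True.intro
end

-- part: H956/K547/McL
section
prune_inst 0xc0106604002200000018000022000060100000020060000000000d0200000940200409000ca0051280202a502004004813100100422000000a000800000400000000100200000100200000001004000000000000000000000000000000000000000000000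
set_option linter.all false
open scoped Cfsg.Agent.FastGrp

-- part: H956/K547/Par
section
/-!
# S4547: the parity of the `τ`-invariant good characters (helper956)

`|S|` even, `τ` of 2-power order modulo inner automorphisms, `t` an element of odd order conjugate to `τ t`:

* `par` : the sum of `χ t` over the `τ`-invariant good characters is zero modulo the maximal ideal;
* `ginv3_of_two` : a `τ`-invariant good character `χ ≠ 1` with `χ t` an even integer gives `GInv3 τ`.
-/

set_option autoImplicit false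

open Cfsg Cfsg.Agent.Characters.Core Cfsg.Agent.H618.Sigma Cfsg.Agent.Blocks.Local

namespace Cfsg.Agent.H956.K547

open Cfsg.Agent.H601.K4 Cfsg.Agent.H821.K547

universe u

variable {S : Type u} [Group S]

/-- the image of a good character under an automorphism -/
def tw (τ : MulAut S) (χ : {χ : IrrCharacter S // Good (χ : S → ℂ)}) : {χ : IrrCharacter S // Good (χ : S → ℂ)} :=
  ⟨⟨fun x => (χ.1 : S → ℂ) (τ x), (H740.K4.good_comp τ χ.2).odd.1⟩, H740.K4.good_comp τ χ.2⟩

theorem tw_apply (τ : MulAut S) (χ : {χ : IrrCharacter S // Good (χ : S → ℂ)}) (x : S) :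
    ((tw τ χ).1 : S → ℂ) x = (χ.1 : S → ℂ) (τ x) := rfl

theorem tw_iter (τ : MulAut S) (m : ℕ) (χ : {χ : IrrCharacter S // Good (χ : S → ℂ)}) (x : S) :
    (((tw τ)^[m] χ).1 : S → ℂ) x = (χ.1 : S → ℂ) ((τ ^ m) x) := by
  induction m generalizing χ with
  | zero => rfl
  | succ m ih =>
    rw [Function.iterate_succ_apply, ih, tw_apply, pow_succ']
    rfl

/-- **Parity of the invariant good characters.** -/
theorem par [Finite S] (hev : Even (Nat.card S)) {τ : MulAut S} (hτ : TwoPow τ) {t s : S} (ht : Odd (orderOf t))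
    (hs : τ t = s * t * s⁻¹) (A : Finset (IrrCharacter S))
    (hA : ∀ χ : IrrCharacter S, χ ∈ A ↔ Good (χ : S → ℂ) ∧ ∀ x, (χ : S → ℂ) (τ x) = (χ : S → ℂ) x)
    {M : Ideal AlgInt} [M.IsPrime] (hM : IsPModular 2 M) : ∑ χ ∈ A, redC M ((χ : S → ℂ) t) = 0 := by
  classical
  have hchar := charP_resField hM
  obtain ⟨k, hk⟩ := H740.K4.exists_cube S
  have hfin : Finite (IrrCharacter S) := finite_irr
  have := Fintype.ofFinite (OddB M S)
  have := Fintype.ofFinite {χ : IrrCharacter S // Good (χ : S → ℂ)}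
  have h1 := sum_fixed_principal hM hk hev ht
  have h2 : ∑ χ : OddB M S with sigB hk M χ = χ, redC M ((χ.1 : S → ℂ) t) =
      ∑ χ : {χ : IrrCharacter S // Good (χ : S → ℂ)}, redC M ((χ.1 : S → ℂ) t) := by
    refine Finset.sum_bij (fun (χ : OddB M S) hχ => ⟨χ.1, H740.K4.good_of_mem hM hk χ (Finset.mem_filter.1 hχ).2⟩)
      ?_ ?_ ?_ ?_
    · intro χ _
      exact Finset.mem_univ _
    · intro a _ b _ hab
      exact Subtype.ext (congrArg (fun x : {χ : IrrCharacter S // Good (χ : S → ℂ)} => x.1) hab)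
    · intro χ _
      refine ⟨⟨χ.1, χ.2.b0 M hM χ.1.2, odd_iff.2 χ.2.odd.2⟩, ?_, rfl⟩
      rw [Finset.mem_filter]
      exact ⟨Finset.mem_univ _, (sigB_eq_iff hk _).2 fun g => χ.2.sig k hk.two hk.odd g⟩
    · intro χ _
      rfl
  rw [h2] at h1
  obtain ⟨n, r, hr⟩ := hτ
  rw [sum_fixed_perm (tw τ) n ?_ _ ?_] at h1
  · rw [← h1]
    symm
    refine Finset.sum_bij (fun (χ : {χ : IrrCharacter S // Good (χ : S → ℂ)}) _ => χ.1) ?_ ?_ ?_ ?_
    · intro χ hχ
      rw [Finset.mem_filter] at hχ
      refine (hA _).2 ⟨χ.2, fun x => ?_⟩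
      exact congrFun (congrArg (fun y : {χ : IrrCharacter S // Good (χ : S → ℂ)} => (y.1 : S → ℂ)) hχ.2) x
    · intro a _ b _ hab
      exact Subtype.ext hab
    · intro χ hχ
      obtain ⟨h3, h4⟩ := (hA χ).1 hχ
      refine ⟨⟨χ, h3⟩, ?_, rfl⟩
      rw [Finset.mem_filter]
      exact ⟨Finset.mem_univ _, Subtype.ext (Subtype.ext (funext h4))⟩
    · intro χ _
      rfl
  · intro χ
    apply Subtype.ext
    apply Subtype.ext
    funext x
    rw [tw_iter, hr]
    exact isIrr_isClassFunction χ.1.2 x r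
  · intro χ
    rw [tw_apply, hs]
    congr 1
    exact isIrr_isClassFunction χ.1.2 t s

/-- **`GInv3` from one invariant character with an even value.** -/
theorem ginv3_of_two [Finite S] (hev : Even (Nat.card S)) {τ : MulAut S} (hτ : TwoPow τ) {t s : S}
    (ht : Odd (orderOf t)) (hs : τ t = s * t * s⁻¹) {χ : S → ℂ} (hχ : Good χ) (hinv : ∀ x, χ (τ x) = χ x)
    (hne : χ ≠ fun _ => 1) {z : ℤ} (hz : χ t = z) (hz2 : Even z) : GInv3 τ := by
  classical
  obtain ⟨M, hM⟩ := Cfsg.Agent.Blocks.ExistsModular.exists_isPModular Nat.prime_two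
  have : M.IsPrime := hM.2.1.isPrime
  have hchar := charP_resField hM
  have hfin : Finite (IrrCharacter S) := finite_irr
  have := Fintype.ofFinite (IrrCharacter S)
  have hone : Good (fun _ : S => (1 : ℂ)) := H740.K4.good_one'
  let a : IrrCharacter S := ⟨fun _ => 1, hone.odd.1⟩
  let b : IrrCharacter S := ⟨χ, hχ.odd.1⟩
  have hab : a ≠ b := fun h => hne (congrArg Subtype.val h).symm
  let A : Finset (IrrCharacter S) := Finset.univ.filter fun χ =>
    Good (χ : S → ℂ) ∧ ∀ x, (χ : S → ℂ) (τ x) = (χ : S → ℂ) x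
  have hA : ∀ χ : IrrCharacter S, χ ∈ A ↔ Good (χ : S → ℂ) ∧ ∀ x, (χ : S → ℂ) (τ x) = (χ : S → ℂ) x := fun χ => by
    simp only [A, _root_.Finset.mem_filter, _root_.Finset.mem_univ, _root_.true_and]
  have ha : a ∈ A := (hA a).2 ⟨hone, fun _ => rfl⟩
  have hb : b ∈ A := (hA b).2 ⟨hχ, hinv⟩
  have h1 := par hev hτ ht hs A hA hM
  obtain ⟨c, hc, hca, hcb⟩ : ∃ c ∈ A, c ≠ a ∧ c ≠ b := by
    by_contra hcon
    push Not at hcon
    have h2 : A = {a, b} := by
      apply Finset.Subset.antisymm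
      · intro c hc
        rw [Finset.mem_insert, Finset.mem_singleton]
        by_cases h : c = a
        · exact Or.inl h
        · exact Or.inr (hcon c hc h)
      · intro c hc
        rw [Finset.mem_insert, Finset.mem_singleton] at hc
        rcases hc with rfl | rfl
        exacts [ha, hb]
    rw [h2, Finset.sum_pair hab] at h1
    have h3 : redC M ((a : S → ℂ) t) = 1 := by
      have : (a : S → ℂ) t = ((1 : ℤ) : ℂ) := by rw [Int.cast_one]
      rw [this, redC_intCast, Int.cast_one]
    have h4 : redC M ((b : S → ℂ) t) = ((z : ℤ) : ResField M) := by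
      have : (b : S → ℂ) t = ((z : ℤ) : ℂ) := hz
      rw [this, redC_intCast]
    have h5 : ((z : ℤ) : ResField M) = 0 := by
      obtain ⟨w, rfl⟩ := hz2
      rw [Int.cast_add]
      exact CharTwo.add_self_eq_zero _
    rw [h3, h4, h5, add_zero] at h1
    exact one_ne_zero h1
  refine ⟨![(a : S → ℂ), (b : S → ℂ), (c : S → ℂ)], ?_, ?_⟩
  · have h1 : (a : S → ℂ) ≠ b := fun h => hab (Subtype.ext h)
    have h2 : (a : S → ℂ) ≠ c := fun h => hca (Subtype.ext h.symm)
    have h3 : (b : S → ℂ) ≠ c := fun h => hcb (Subtype.ext h.symm)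
    intro i j hij
    fin_cases i <;> fin_cases j
    · rfl
    · exact absurd hij h1
    · exact absurd hij h2
    · exact absurd hij.symm h1
    · rfl
    · exact absurd hij h3
    · exact absurd hij.symm h2
    · exact absurd hij.symm h3
    · rfl
  · intro i
    fin_cases i
    · exact (hA a).1 ha
    · exact (hA b).1 hb
    · exact (hA c).1 hc

end Cfsg.Agent.H956.K547
end

-- part: H956/K547/McL
section
/-!
# S4547, sporadic row `McL`: three invariant good characters (helper956)

* `exists_commute` : some element `x` of order 11 of `K (-leechV) leechU` commutes with an isometry fixing `leechV` and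
  interchanging the two other vectors of the triangle (monomial picture: the triangle `(2^12)`, `(-3, 1^23)`, the
  coordinate permutation `x ↦ 2 x` and a change of signs on a dodecad);
* `ginv3_mcl` : `GInv3 τ` for the automorphisms of `McL`.
-/

set_option autoImplicit false

namespace Cfsg.Agent.H956.K547.McL

open Cfsg Cfsg.Agent.LeechMat.Code Cfsg.Agent.LeechMat.Core Cfsg.Agent.LeechMat.Elements
open Cfsg.Agent.SporadicA.Co0Mono Cfsg.Agent.H997.OutMcL
open Cfsg.Agent.Characters.Core Cfsg.Agent.H419.Spor.Mathieu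
open Cfsg.Agent.H740.K4.Wedge (alt)

universe u

/-! ### the monomial triangle -/

def cu : ℕ := 0x8421084a12842528425284a1294a52
def cv : ℕ := 0x6c6318c6318c6318c6318c6318c631

/-- the vector `(2^12, 0^12)` -/
def u1 : leechLattice := ⟨vec cu, isLeech_sound (by decide +kernel)⟩
/-- the vector `(-3, 1^23)` -/
def v1 : leechLattice := ⟨vec cv, isLeech_sound (by decide +kernel)⟩

theorem norm_u1 : sqNorm (u1 : GolayPt → ℤ) = 48 := by
  rw [sqNorm_eq_dotInt]
  exact (dotc_eq cu cu).symm.trans (by decide +kernel)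

theorem norm_v1 : sqNorm (v1 : GolayPt → ℤ) = 32 := by
  rw [sqNorm_eq_dotInt]
  exact (dotc_eq cv cv).symm.trans (by decide +kernel)

theorem dot_uv : dotInt (u1 : GolayPt → ℤ) (v1 : GolayPt → ℤ) = 24 :=
  (dotc_eq cu cv).symm.trans (by decide +kernel)

theorem norm_sub1 : sqNorm ((u1 : GolayPt → ℤ) - (v1 : GolayPt → ℤ)) = 32 := by
  rw [Cfsg.Agent.Leech.Basic.sqNorm_sub, norm_u1, norm_v1, dot_uv]
  norm_num

/-- the multiplication by two -/
noncomputable def m11 : M24 := ⟨M, M_mem⟩

theorem m11_pow : m11 ^ 11 = 1 := by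
  apply Subtype.ext
  show M ^ 11 = 1
  apply Equiv.ext
  decide +kernel

/-- the complement of the dodecad -/
def cd : golayCode := ⟨1 + qrWord 0, golayCode.add_mem (Submodule.subset_span (Or.inr rfl))
  (Submodule.subset_span (Or.inl ⟨0, rfl⟩))⟩

noncomputable def x1 : Co0 := permCo0 m11

noncomputable def z1 : Co0 := signCo0 cd

theorem x1_u : x1 • u1 = u1 := by
  apply Subtype.ext
  funext p
  have h : ∀ p, permMap M (vec cu) p = vec cu p := by decide +kernel
  exact h p

theorem x1_v : x1 • v1 = v1 := by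
  apply Subtype.ext
  funext p
  have h : ∀ p, permMap M (vec cv) p = vec cv p := by decide +kernel
  exact h p

theorem z1_u : z1 • u1 = u1 := by
  apply Subtype.ext
  funext p
  have h : ∀ p, signMap (1 + qrWord 0) (vec cu) p = vec cu p := by decide +kernel
  exact h p

theorem z1_v : z1 • v1 = u1 - v1 := by
  apply Subtype.ext
  funext p
  have h : ∀ p, signMap (1 + qrWord 0) (vec cv) p = vec cu p - vec cv p := by decide +kernel
  exact h p

theorem comm : z1 * x1 = x1 * z1 := by
  apply ext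
  intro v
  apply Subtype.ext
  funext p
  rw [mul_smul, mul_smul]
  show sgn ((1 + qrWord 0 : GolayPt → ZMod 2) p) * (v : GolayPt → ℤ) (M.symm p) =
    sgn ((1 + qrWord 0 : GolayPt → ZMod 2) (M.symm p)) * (v : GolayPt → ℤ) (M.symm p)
  have h : ∀ p, (1 + qrWord 0 : GolayPt → ZMod 2) (M.symm p) = (1 + qrWord 0 : GolayPt → ZMod 2) p := by
    decide +kernel
  rw [h]

theorem fix1 : Nat.card (MulAction.fixedBy GolayPt m11) = 2 := by
  rw [Nat.card_eq_fintype_card, Fintype.card_subtype]
  have h : (Finset.univ.filter fun p : GolayPt => M p = p).card = 2 := by decide +kernel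
  exact h

theorem fix2 : Nat.card (MulAction.fixedBy GolayPt (m11 * m11)) = 2 := by
  rw [Nat.card_eq_fintype_card, Fintype.card_subtype]
  have h : (Finset.univ.filter fun p : GolayPt => M (M p) = p).card = 2 := by decide +kernel
  exact h

/-! ### the triangle of the definition -/

open Cfsg.Agent.SporadicRecognition.HSRank (K)
open Cfsg.Agent.SporadicRecognition.McLAssemble (norm_U norm_negV norm_sub)
open Cfsg.Agent.H419.LeechIrr Cfsg.Agent.H419.LeechFix
open Cfsg.Agent.Leech.Co0Elts (smul_neg_co0)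
open Cfsg.Agent.H332.EB.McLAut (smul_sub_co0)

/-- the group -/
abbrev K0 : Subgroup ↥Co0 := K (-Spor.leechV) Spor.leechU

theorem exists_move : ∃ a : ↥Co0, a • u1 = -Spor.leechV ∧ a • v1 = Spor.leechU := by
  obtain ⟨b, hb⟩ := Cfsg.Agent.S0401.result u1 (-Spor.leechV) norm_u1 norm_negV
  have h1 : sqNorm ((b • v1 : leechLattice) : GolayPt → ℤ) = 32 := by
    rw [Cfsg.Agent.Leech.Co0Elts.sqNorm_smul, norm_v1]
  have h2 : sqNorm (((-Spor.leechV : leechLattice) : GolayPt → ℤ) - ((b • v1 : leechLattice) : GolayPt → ℤ)) = 32 := by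
    have h3 := Cfsg.Agent.Leech.Co0Elts.sqNorm_smul b (u1 - v1)
    rw [smul_sub_co0, hb] at h3
    exact h3.trans norm_sub1
  obtain ⟨c, hc1, hc2⟩ := Cfsg.Agent.S1579.result (-Spor.leechV) (b • v1) Spor.leechU norm_negV ⟨h1, h2⟩
    ⟨norm_U, norm_sub⟩
  exact ⟨c * b, by rw [mul_smul, hb, hc1], by rw [mul_smul, hc2]⟩

/-- traces -/
theorem tr8_conj (g k : ↥Co0) : Cfsg.Agent.Co2Type.Mono.tr8 (g * k * g⁻¹) = Cfsg.Agent.Co2Type.Mono.tr8 k := by
  have h1 : lchi (MonoidHom.id ↥Co0) (g * k * g⁻¹) = lchi (MonoidHom.id ↥Co0) k := by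
    rw [lchi_eq, Representation.char_conj]
  unfold lchi at h1
  have h2 : (Cfsg.Agent.Co2Type.Mono.tr8 (g * k * g⁻¹) : ℂ) / 8 = (Cfsg.Agent.Co2Type.Mono.tr8 k : ℂ) / 8 := h1
  have h3 : (Cfsg.Agent.Co2Type.Mono.tr8 (g * k * g⁻¹) : ℂ) = (Cfsg.Agent.Co2Type.Mono.tr8 k : ℂ) := by
    have h8 : (8 : ℂ) ≠ 0 := by norm_num
    field_simp at h2
    exact h2
  exact_mod_cast h3

/-- **The commuting element.** -/
theorem exists_commute : ∃ (x : ↥K0) (z : ↥Co0), x ^ 11 = 1 ∧ z • (-Spor.leechV) = -Spor.leechV ∧ z • Spor.leechU = W ∧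
    z * x = x * z ∧ lchi K0.subtype x = 2 ∧ lchi K0.subtype (x * x) = 2 := by
  obtain ⟨a, hu, hv⟩ := exists_move
  have hu' : a⁻¹ • (-Spor.leechV) = u1 := by rw [inv_smul_eq_iff, hu]
  have hv' : a⁻¹ • Spor.leechU = v1 := by rw [inv_smul_eq_iff, hv]
  have hx : a * x1 * a⁻¹ ∈ K0 := by
    refine ⟨?_, ?_⟩
    · show (a * x1 * a⁻¹) • (-Spor.leechV) = -Spor.leechV
      rw [mul_smul, mul_smul, hu', x1_u, hu]
    · show (a * x1 * a⁻¹) • Spor.leechU = Spor.leechU
      rw [mul_smul, mul_smul, hv', x1_v, hv]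
  refine ⟨⟨a * x1 * a⁻¹, hx⟩, a * z1 * a⁻¹, ?_, ?_, ?_, ?_, ?_, ?_⟩
  · apply Subtype.ext
    show (a * x1 * a⁻¹) ^ 11 = 1
    rw [conj_pow]
    have h1 : x1 ^ 11 = 1 := by
      show permCo0 m11 ^ 11 = 1
      rw [← map_pow, m11_pow, map_one]
    rw [h1, mul_one, mul_inv_cancel]
  · rw [mul_smul, mul_smul, hu', z1_u, hu]
  · rw [mul_smul, mul_smul, hv', z1_v, smul_sub_co0, hu, hv]
    rfl
  · show a * z1 * a⁻¹ * (a * x1 * a⁻¹) = a * x1 * a⁻¹ * (a * z1 * a⁻¹)
    calc a * z1 * a⁻¹ * (a * x1 * a⁻¹) = a * (z1 * x1) * a⁻¹ := by group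
      _ = a * (x1 * z1) * a⁻¹ := by rw [comm]
      _ = a * x1 * a⁻¹ * (a * z1 * a⁻¹) := by group
  · have h1 := lchi_perm (MonoidHom.id ↥Co0) (g := x1) (σ := m11) rfl
    rw [fix1] at h1
    have h2 : lchi K0.subtype ⟨a * x1 * a⁻¹, hx⟩ = lchi (MonoidHom.id ↥Co0) x1 := by
      show (Cfsg.Agent.Co2Type.Mono.tr8 (a * x1 * a⁻¹) : ℂ) / 8 = (Cfsg.Agent.Co2Type.Mono.tr8 x1 : ℂ) / 8
      rw [tr8_conj]
    rw [h2, h1]
    norm_num
  · have h1 := lchi_perm (MonoidHom.id ↥Co0) (g := x1 * x1) (σ := m11 * m11) (by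
      show x1 * x1 = permCo0 (m11 * m11)
      rw [map_mul]
      rfl)
    rw [fix2] at h1
    have h2 : lchi K0.subtype ((⟨a * x1 * a⁻¹, hx⟩ : ↥K0) * ⟨a * x1 * a⁻¹, hx⟩) =
        lchi (MonoidHom.id ↥Co0) (x1 * x1) := by
      show (Cfsg.Agent.Co2Type.Mono.tr8 (a * x1 * a⁻¹ * (a * x1 * a⁻¹)) : ℂ) / 8 =
        (Cfsg.Agent.Co2Type.Mono.tr8 (x1 * x1) : ℂ) / 8
      rw [show a * x1 * a⁻¹ * (a * x1 * a⁻¹) = a * (x1 * x1) * a⁻¹ by group, tr8_conj]
    rw [h2, h1]
    norm_num

/-- The automorphisms of the group are conjugations by isometries preserving the triangle. -/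
theorem exists_conj' (α : ↥K0 ≃* ↥K0) : ∃ g : ↥Co0, g • (-Spor.leechV) = -Spor.leechV ∧
    (g • Spor.leechU = Spor.leechU ∨ (g • Spor.leechU = W ∧ g • W = Spor.leechU)) ∧
    ∀ k : ↥K0, ((α k : ↥K0) : ↥Co0) = g * k * g⁻¹ := by
  obtain ⟨z, hz, hV, hU, hs⟩ := Cfsg.Agent.H332.EB.McLAut.exists_conj
    ((H713.Spor.McL.mclEquiv.trans α).trans H713.Spor.McL.mclEquiv.symm)
  obtain ⟨g, hg⟩ : ∃ g : ↥Co0, g = ⟨z, hz⟩ := ⟨_, rfl⟩
  have hgz : ∀ v : ↥leechLattice, g • v = z v := fun v => by rw [hg]; rfl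
  refine ⟨g, ?_, ?_, ?_⟩
  · rw [smul_neg_co0, hgz, hV]
  · rcases hU with hU | ⟨hU, hW⟩
    · exact Or.inl (by rw [hgz, hU])
    · exact Or.inr ⟨by rw [hgz, hU], by rw [hgz, hW]⟩
  · intro k
    apply Subtype.ext
    obtain ⟨s, rfl⟩ := H713.Spor.McL.mclEquiv.surjective k
    have h1 := hs s
    have h2 : H713.Spor.McL.mclEquiv (((H713.Spor.McL.mclEquiv.trans α).trans H713.Spor.McL.mclEquiv.symm) s) =
        α (H713.Spor.McL.mclEquiv s) := by
      show H713.Spor.McL.mclEquiv (H713.Spor.McL.mclEquiv.symm (α (H713.Spor.McL.mclEquiv s))) = _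
      rw [MulEquiv.apply_symm_apply]
    rw [← h2, hg]
    exact h1

/-- The element of order 11 is conjugate to its images under automorphisms. -/
theorem exists_elt : ∃ x : ↥K0, x ^ 11 = 1 ∧ lchi K0.subtype x = 2 ∧ lchi K0.subtype (x * x) = 2 ∧
    ∀ α : ↥K0 ≃* ↥K0, ∃ s : ↥K0, α x = s * x * s⁻¹ := by
  obtain ⟨x, z, h1, h2, h3, h4, h5, h6⟩ := exists_commute
  refine ⟨x, h1, h5, h6, fun α => ?_⟩
  obtain ⟨g, hV, hU, hα⟩ := exists_conj' α
  rcases hU with hU | ⟨hU, hW⟩
  · exact ⟨⟨g, hV, hU⟩, Subtype.ext (hα x)⟩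
  · have hz1 : z⁻¹ • (-Spor.leechV) = -Spor.leechV := by rw [inv_smul_eq_iff, h2]
    have hzW : z • W = Spor.leechU := by
      have h7 : W = -Spor.leechV - Spor.leechU := rfl
      rw [h7, smul_sub_co0, h2, h3, h7]
      abel
    have hz2 : z⁻¹ • Spor.leechU = W := by rw [inv_smul_eq_iff, hzW]
    refine ⟨⟨g * z⁻¹, ?_, ?_⟩, Subtype.ext ?_⟩
    · show (g * z⁻¹) • (-Spor.leechV) = -Spor.leechV
      rw [mul_smul, hz1, hV]
    · show (g * z⁻¹) • Spor.leechU = Spor.leechU
      rw [mul_smul, hz2, hW]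
    · rw [hα x]
      show g * (x : ↥Co0) * g⁻¹ = g * z⁻¹ * (x : ↥Co0) * (g * z⁻¹)⁻¹
      have h8 : z⁻¹ * (x : ↥Co0) * z = x := by
        rw [mul_assoc, ← h4, inv_mul_cancel_left]
      calc g * (x : ↥Co0) * g⁻¹ = g * (z⁻¹ * (x : ↥Co0) * z) * g⁻¹ := by rw [h8]
        _ = g * z⁻¹ * (x : ↥Co0) * (g * z⁻¹)⁻¹ := by group

/-- **`GInv3` for `McL`.** -/
theorem ginv3_mcl {S : Type u} [Group S] (h : Spor.IsoMcL S) (τ : MulAut S) (hτ : H821.K547.TwoPow τ) :
    H821.K547.GInv3 τ := by
  obtain ⟨e0⟩ := h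
  obtain ⟨e, -⟩ : ∃ e : S ≃* ↥K0, e = e0.trans H713.Spor.McL.mclEquiv := ⟨_, rfl⟩
  have hc : Nat.card S = 898128000 := by
    rw [Nat.card_congr e.toEquiv]
    exact H713.Spor.McL.facts.2
  have hfin : Finite S := Nat.finite_of_card_ne_zero (by rw [hc]; norm_num)
  obtain ⟨μ, -, hμ⟩ := H713.Spor.McL.exists_22
  obtain ⟨hirr, hdeg, hrt⟩ := H956.K4.McLRow.alt_mu μ hμ
  have hfk : Finite ↥K0 := Finite.of_equiv _ e.toEquiv
  have hμ' : ∀ k, (μ : ↥K0 → ℂ) k = lchi K0.subtype k - 2 := by
    intro k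
    rw [hμ k]
    push_cast
    ring
  have hgood : H601.K4.Good (alt (μ : ↥K0 → ℂ)) := H740.K4.good_of_rat hirr
    (H956.K4.McLRow.rat_of_rt (isIrr_isCharacter hirr) hrt) (by rw [hdeg]; decide)
  -- invariance
  have hinv : ∀ (α : ↥K0 ≃* ↥K0) (k : ↥K0), (μ : ↥K0 → ℂ) (α k) = (μ : ↥K0 → ℂ) k := by
    intro α k
    obtain ⟨g, -, -, hα⟩ := exists_conj' α
    rw [hμ', hμ']
    congr 1
    show (Cfsg.Agent.Co2Type.Mono.tr8 ((α k : ↥K0) : ↥Co0) : ℂ) / 8 = (Cfsg.Agent.Co2Type.Mono.tr8 (k : ↥Co0) : ℂ) / 8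
    rw [hα, tr8_conj]
  have hinv2 : ∀ (α : ↥K0 ≃* ↥K0) (k : ↥K0), alt (μ : ↥K0 → ℂ) (α k) = alt (μ : ↥K0 → ℂ) k := by
    intro α k
    unfold Cfsg.Agent.H740.K4.Wedge.alt
    rw [← map_mul, hinv, hinv]
  obtain ⟨x, hx, hl1, hl2, hconj⟩ := exists_elt
  obtain ⟨α, hα⟩ : ∃ α : ↥K0 ≃* ↥K0, ∀ k, α k = e (τ (e.symm k)) := ⟨(e.symm.trans τ).trans e, fun k => rfl⟩
  obtain ⟨s, hs⟩ := hconj α
  have hval : alt (μ : ↥K0 → ℂ) x = ((0 : ℤ) : ℂ) := by
    unfold Cfsg.Agent.H740.K4.Wedge.alt
    rw [hμ', hμ', hl1, hl2]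
    norm_num
  refine ginv3_of_two (t := e.symm x) (s := e.symm s) (χ := fun t => alt (μ : ↥K0 → ℂ) (e t)) (z := 0) ?_ hτ ?_ ?_
    (H740.K4.good_comp e hgood) ?_ ?_ ?_ (by decide)
  · rw [hc]; decide
  · have h1 : orderOf (e.symm x) ∣ 11 := by
      apply orderOf_dvd_of_pow_eq_one
      rw [← map_pow, hx, map_one]
    exact Odd.of_dvd_nat (by decide) h1
  · have h1 := hα x
    rw [hs] at h1
    apply e.injective
    rw [← h1]
    simp only [_root_.map_mul, _root_.MulEquiv.apply_symm_apply, _root_.map_inv]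
  · intro t
    have h1 : e (τ t) = α (e t) := by rw [hα, e.symm_apply_apply]
    show alt (μ : ↥K0 → ℂ) (e (τ t)) = alt (μ : ↥K0 → ℂ) (e t)
    rw [h1, hinv2]
  · intro h1
    have h2 := congrFun h1 (e.symm x)
    have h3 : alt (μ : ↥K0 → ℂ) (e (e.symm x)) = 1 := h2
    rw [e.apply_symm_apply, hval, Int.cast_zero] at h3
    exact zero_ne_one h3
  · show alt (μ : ↥K0 → ℂ) (e (e.symm x)) = _
    rw [e.apply_symm_apply, hval]

end Cfsg.Agent.H956.K547.McL
end
end

-- part: H834/K547/SuzRow
section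
set_option linter.all false
open scoped Cfsg.Agent.FastGrp

-- part: H834/K547/PcRk
section
/-!
# Homomorphisms to elementary abelian 2-groups from involutory polycyclic generators (helper834, S4547)

`PcList` : `Gs` a list of involutions, each normalising the subgroup generated by the following ones. `PCL Gs cs`: a list
`cs` of labels in an elementary abelian group which is compatible with the relations `g h g⁻¹ = pr l m`.

`exists_hom` : then there is a homomorphism from the closure with these values; `rk_of_pcl` : the form used for S4547.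
-/

set_option autoImplicit false

namespace Cfsg.Agent.H834.K547

open Cfsg.Agent.SporRec.SuzCl Cfsg.Agent.H821.K547

section gen

variable {M : Type*} [Group M] {A : Type*} [AddCommGroup A]

/-- the label of a number -/
def lb : List A → ℕ → A
  | [], _ => 0
  | c :: cs, k => (if k % 2 = 1 then c else 0) + lb cs (k / 2)

theorem lb_even (c : A) (cs : List A) (k : ℕ) : lb (c :: cs) (2 * k) = lb cs k := by
  show (if 2 * k % 2 = 1 then c else 0) + lb cs (2 * k / 2) = _
  rw [if_neg (by omega), zero_add, Nat.mul_div_cancel_left _ (by norm_num)]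

theorem lb_odd (c : A) (cs : List A) (k : ℕ) : lb (c :: cs) (2 * k + 1) = c + lb cs k := by
  show (if (2 * k + 1) % 2 = 1 then c else 0) + lb cs ((2 * k + 1) / 2) = _
  rw [if_pos (by omega)]
  congr 2
  omega

/-- `x` has label `a` -/
def Lab (l : List M) (cs : List A) (x : M) (a : A) : Prop := ∃ k < 2 ^ l.length, x = pr l k ∧ lb cs k = a

/-- labelled involutory polycyclic sequences -/
def PCL : List M → List A → Prop
  | [], [] => True
  | g :: l, c :: cs => g * g = 1 ∧ List.Forall₂ (fun h b => Lab l cs (g * h * g⁻¹) b) l cs ∧ PCL l cs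
  | _, _ => False

theorem Lab.one (l : List M) (cs : List A) : Lab l cs 1 0 := by
  refine ⟨0, by positivity, ?_, ?_⟩
  · induction l with
    | nil => rfl
    | cons g l ih => have := pr_even g l 0; rw [Nat.mul_zero] at this; rw [this, ← ih]
  · induction cs with
    | nil => rfl
    | cons c cs ih => have := lb_even c cs 0; rw [Nat.mul_zero] at this; rw [this, ih]

theorem lab_cons_even {g : M} {l : List M} {c : A} {cs : List A} {x : M} {a : A} (h : Lab l cs x a) :
    Lab (g :: l) (c :: cs) x a := by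
  obtain ⟨k, hk, rfl, rfl⟩ := h
  exact ⟨2 * k, by rw [List.length_cons, pow_succ]; omega, (pr_even g l k).symm, lb_even c cs k⟩

theorem lab_cons_odd {g : M} {l : List M} {c : A} {cs : List A} {x : M} {a : A} (h : Lab l cs x a) :
    Lab (g :: l) (c :: cs) (g * x) (c + a) := by
  obtain ⟨k, hk, rfl, rfl⟩ := h
  exact ⟨2 * k + 1, by rw [List.length_cons, pow_succ]; omega, (pr_odd g l k).symm, lb_odd c cs k⟩

theorem lab_cons_cases {g : M} {l : List M} {c : A} {cs : List A} {x : M} {a : A} (h : Lab (g :: l) (c :: cs) x a) :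
    Lab l cs x a ∨ ∃ y b, Lab l cs y b ∧ x = g * y ∧ a = c + b := by
  obtain ⟨k, hk, rfl, rfl⟩ := h
  rw [List.length_cons, pow_succ] at hk
  rcases Nat.even_or_odd' k with ⟨m, rfl | rfl⟩
  · left
    rw [pr_even, lb_even]
    exact ⟨m, by omega, rfl, rfl⟩
  · right
    rw [pr_odd, lb_odd]
    exact ⟨_, _, ⟨m, by omega, rfl, rfl⟩, rfl, rfl⟩

theorem conj_lab {g : M} {l : List M} {cs : List A}
    (hmul : ∀ x a y b, Lab l cs x a → Lab l cs y b → Lab l cs (x * y) (a + b)) :
    ∀ (hs : List M) (bs : List A), List.Forall₂ (fun h b => Lab l cs (g * h * g⁻¹) b) hs bs →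
      ∀ x a, Lab hs bs x a → Lab l cs (g * x * g⁻¹) a := by
  intro hs bs h
  induction h with
  | nil =>
    rintro x a ⟨k, hk, rfl, rfl⟩
    have : g * pr ([] : List M) k * g⁻¹ = 1 := by rw [pr_nil, mul_one, mul_inv_cancel]
    rw [this]
    exact Lab.one l cs
  | @cons h b hs bs h1 h2 ih =>
    intro x a hx
    rcases lab_cons_cases hx with hx | ⟨y, a', hy, rfl, rfl⟩
    · exact ih x a hx
    · have h3 : g * (h * y) * g⁻¹ = (g * h * g⁻¹) * (g * y * g⁻¹) := by group
      rw [h3]
      exact hmul _ _ _ _ h1 (ih y a' hy)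

theorem lab_mul (h2 : ∀ a : A, a + a = 0) : ∀ (l : List M) (cs : List A), PCL l cs →
    ∀ x a y b, Lab l cs x a → Lab l cs y b → Lab l cs (x * y) (a + b) := by
  intro l
  induction l with
  | nil =>
    intro cs h x a y b hx hy
    cases cs with
    | nil =>
      obtain ⟨k, -, rfl, rfl⟩ := hx
      obtain ⟨k', -, rfl, rfl⟩ := hy
      rw [pr_nil, pr_nil, one_mul]
      exact ⟨0, by simp, rfl, (add_zero _).symm⟩
    | cons c cs => exact h.elim
  | cons g l ih =>
    intro cs h x a y b hx hy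
    cases cs with
    | nil => exact h.elim
    | cons c cs =>
      obtain ⟨hgg, hrel, hl⟩ := h
      have hgi : g⁻¹ = g := inv_eq_of_mul_eq_one_left hgg
      have hm := ih cs hl
      have hc := conj_lab (g := g) hm l cs hrel
      rcases lab_cons_cases hx with hx | ⟨n, a', hn, rfl, rfl⟩ <;>
        rcases lab_cons_cases hy with hy | ⟨m, b', hm', rfl, rfl⟩
      · exact lab_cons_even (hm _ _ _ _ hx hy)
      · have h3 : x * (g * m) = g * ((g * x * g⁻¹) * m) := by
          rw [hgi]
          calc x * (g * m) = (g * g) * x * g * m := by rw [hgg]; group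
            _ = _ := by group
        have h4 : a + (c + b') = c + (a + b') := by abel
        rw [h3, h4]
        exact lab_cons_odd (hm _ _ _ _ (hc _ _ hx) hm')
      · rw [mul_assoc, add_assoc]
        exact lab_cons_odd (hm _ _ _ _ hn hy)
      · have h3 : g * n * (g * m) = (g * n * g⁻¹) * m := by rw [hgi]; group
        have h4 : c + a' + (c + b') = a' + b' := by
          calc c + a' + (c + b') = (c + c) + (a' + b') := by abel
            _ = _ := by rw [h2, zero_add]
        rw [h3, h4]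
        exact lab_cons_even (hm _ _ _ _ (hc _ _ hn) hm')

theorem PCL.pc : ∀ (l : List M) (cs : List A), PCL l cs → PC l := by
  intro l
  induction l with
  | nil => intro _ _; trivial
  | cons g l ih =>
    intro cs h
    cases cs with
    | nil => exact h.elim
    | cons c cs =>
      obtain ⟨hgg, hrel, hl⟩ := h
      refine ⟨hgg, fun x hx => ?_, ih cs hl⟩
      obtain ⟨i, hi, rfl⟩ := List.getElem_of_mem hx
      obtain ⟨b, hb⟩ : ∃ b, Lab l cs (g * l[i] * g⁻¹) b := by
        have hlen := hrel.length_eq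
        exact ⟨_, (List.forall₂_iff_get.1 hrel).2 i hi (hlen ▸ hi)⟩
      obtain ⟨k, -, hk, -⟩ := hb
      rw [hk]
      exact pr_mem _ _

/-- the homomorphism with given values -/
theorem exists_hom (h2 : ∀ a : A, a + a = 0) {l : List M} {cs : List A} (h : PCL l cs)
    (h1 : ∀ k < 2 ^ l.length, pr l k = 1 → k = 0) :
    ∃ f : Subgroup.closure {x | x ∈ l} →* Multiplicative A, ∀ (x : Subgroup.closure {x | x ∈ l}) (a : A), Lab l cs (x : M) a → f x = Multiplicative.ofAdd a := by
  have hpc := PCL.pc l cs h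
  have hex : ∀ x : Subgroup.closure {x | x ∈ l}, ∃ a, Lab l cs (x : M) a := by
    intro x
    obtain ⟨k, hk, hx⟩ := exists_pr l hpc x x.2
    exact ⟨_, k, hk, hx, rfl⟩
  have huniq : ∀ (x : M) a b, Lab l cs x a → Lab l cs x b → a = b := by
    rintro x a b ⟨k, hk, rfl, rfl⟩ ⟨k', hk', h3, rfl⟩
    rw [pr_inj l hpc h1 k hk k' hk' h3]
  choose F hF using hex
  refine ⟨MonoidHom.mk' (fun x => Multiplicative.ofAdd (F x)) ?_, ?_⟩
  · intro x y
    rw [← ofAdd_add]
    congr 1
    exact huniq _ _ _ (hF (x * y)) (lab_mul h2 l cs h _ _ _ _ (hF x) (hF y))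
  · intro x a hx
    show Multiplicative.ofAdd (F x) = _
    rw [huniq _ _ _ (hF x) hx]

end gen

theorem rk_of_pcl {M : Type} [Group M] {n : ℕ} {l : List M} {cs : List (Fin n → ZMod 2)} (h : PCL l cs)
    (h1 : ∀ k < 2 ^ l.length, pr l k = 1 → k = 0) (hs : ∀ a : Fin n → ZMod 2, ∃ k < 2 ^ l.length, lb cs k = a) :
    Rk n (Subgroup.closure {x | x ∈ l}) := by
  obtain ⟨f, hf⟩ := exists_hom (fun a => by
    funext i
    show a i + a i = 0
    generalize a i = x
    revert x; decide) h h1
  refine ⟨f, fun a => ?_⟩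
  obtain ⟨k, hk, hka⟩ := hs (Multiplicative.toAdd a)
  refine ⟨⟨pr l k, pr_mem l k⟩, ?_⟩
  rw [hf _ (Multiplicative.toAdd a) ⟨k, hk, rfl, hka⟩]
  rfl

end Cfsg.Agent.H834.K547
end

-- part: H834/K547/SuzRk
section
/-!
# S4547, row `Suz`: the Sylow 2-subgroups need at least three generators (helper834)

The Sylow 2-subgroup of `SuzCl.TData` (thirteen involutory polycyclic generators) has four independent homomorphisms to
`C₂`; three of them are used.
-/

set_option autoImplicit false
set_option maxRecDepth 100000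

namespace Cfsg.Agent.H834.K547

open Cfsg.Agent.SporRec.SuzCl Cfsg.Agent.H821.K547
open Cfsg.Spor Cfsg.Agent.SporadicRecognition.SuzPhi Cfsg.Agent.SporadicRecognition.SuzOrder

/-- check of the labels of one generator -/
def lbRow {A : Type*} [AddCommGroup A] [DecidableEq A] (full : List A) : List A → List ℕ → Bool
  | [], [] => true
  | b :: bs, m :: ms => decide (m < 2 ^ full.length) && decide (lb full m = b) && lbRow full bs ms
  | _, _ => false

def lbChk {A : Type*} [AddCommGroup A] [DecidableEq A] : List A → List (List ℕ) → Bool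
  | [], _ => true
  | _ :: cs, ms :: mss => lbRow cs cs ms && lbChk cs mss
  | _, _ => false

theorem rel_spec {A : Type*} [AddCommGroup A] [DecidableEq A] {t : ℕ} {g : Suz} (ht : R t g) {full : List ℕ}
    {gf : List Suz} (hf : List.Forall₂ R full gf) {cs : List A} (hlen : cs.length = gf.length)
    {us : List ℕ} {hs : List Suz} (hu : List.Forall₂ R us hs) :
    ∀ (ms : List ℕ) (bs : List A), relI t full us ms = true → lbRow cs bs ms = true → bs.length = hs.length →
      List.Forall₂ (fun h b => Lab gf cs (g * h * g⁻¹) b) hs bs := by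
  induction hu with
  | nil =>
    intro ms bs _ _ hl
    rw [List.length_nil, List.length_eq_zero_iff] at hl
    subst hl
    exact .nil
  | @cons u h us hs h1 h2 ih =>
    intro ms bs hms hb hl
    cases bs with
    | nil => exact absurd hl (by simp)
    | cons b bs =>
      cases ms with
      | nil => exact absurd hms (by simp [relI])
      | cons m ms =>
        rw [relI, Bool.and_eq_true] at hms
        rw [lbRow, Bool.and_eq_true, Bool.and_eq_true, decide_eq_true_eq, decide_eq_true_eq] at hb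
        refine .cons ?_ (ih ms bs hms.2 hb.2 (by simpa using hl))
        have h3 : g * h = pr gf m * g := by
          refine eq_of_eqB (f := fun p => app t (app u p)) (g := fun p => tev full m 0 (app t p)) ?_ ?_ hms.1
          · intro p hp
            rw [map_mul, Equiv.Perm.mul_apply, (h1 p hp).1, (ht _ (h1 p hp).2).1]
          · intro p hp
            rw [map_mul, Equiv.Perm.mul_apply, (ht p hp).1, (tev_zero hf m _ (ht p hp).2).1]
        rw [h3, mul_inv_cancel_right]
        exact ⟨m, by rw [← hlen]; exact hb.1.1, rfl, hb.1.2⟩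

theorem pcl_of {A : Type*} [AddCommGroup A] [DecidableEq A] {ts : List ℕ} {gs : List Suz} (h : List.Forall₂ R ts gs) :
    ∀ (mss : List (List ℕ)) (cs : List A), pcChk ts mss = true → lbChk cs mss = true → cs.length = gs.length →
      PCL gs cs := by
  induction h with
  | nil =>
    intro _ cs _ _ hl
    rw [List.length_nil, List.length_eq_zero_iff] at hl
    subst hl
    trivial
  | @cons t g ts gs h1 h2 ih =>
    intro mss cs hms hlb hl
    cases cs with
    | nil => exact absurd hl (by simp)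
    | cons c cs =>
      cases mss with
      | nil => exact absurd hms (by simp [pcChk])
      | cons ms mss =>
        rw [pcChk, Bool.and_eq_true, Bool.and_eq_true] at hms
        rw [lbChk, Bool.and_eq_true] at hlb
        have hl' : cs.length = gs.length := by simpa using hl
        refine ⟨?_, rel_spec h1 h2 hl' h2 ms cs hms.1.2 hlb.1 hl', ih mss cs hms.2 hlb.2 hl'⟩
        refine eq_of_eqB (f := fun p => app t (app t p)) (g := fun p => p) ?_ ?_ hms.1.1
        · intro p hp
          rw [map_mul, Equiv.Perm.mul_apply, (h1 p hp).1, (h1 _ (h1 p hp).2).1]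
        · intro p _
          rw [map_one]; rfl

/-- the labels -/
def cS : List (Fin 3 → ZMod 2) := [![1, 0, 0], ![0, 1, 0], 0, 0, ![0, 0, 1], 0, 0, 0, 0, 0, 0, 0, 0]

theorem rk_T : Rk 3 T := by
  refine rk_of_pcl (l := Gs) (cs := cS) (pcl_of R_Ts MS cS (by decide +kernel) (by decide +kernel) rfl) pr_ne_one ?_
  have h : ∀ a : Fin 3 → ZMod 2, lb cS ((a 0).val + 2 * (a 1).val + 16 * (a 2).val) = a := by decide
  intro a
  refine ⟨_, ?_, h a⟩
  have h0 := (a 0).val_lt
  have h1 := (a 1).val_lt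
  have h2 := (a 2).val_lt
  have hlen : Gs.length = 13 := rfl
  rw [hlen]
  omega

/-- D3 for the Sylow 2-subgroups of a group isomorphic to the Suzuki group -/
theorem d3_suz {S : Type*} [Group S] (h : IsoSuz S) : D3 S := by
  obtain ⟨e⟩ := h
  have hcard : Nat.card Suz = 448345497600 := card_Suz
  have hfin : Finite Suz := Nat.finite_of_card_ne_zero (by rw [hcard]; norm_num)
  have hfS : Finite S := Finite.of_equiv Suz e.symm.toEquiv
  have h2 : Fact (Nat.Prime 2) := ⟨Nat.prime_two⟩
  intro Q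
  -- `T` is a Sylow subgroup
  have hT : IsPGroup 2 T := IsPGroup.iff_card.2 ⟨13, by rw [card_T]; norm_num⟩
  obtain ⟨T', hT'⟩ := hT.exists_le_sylow
  have hcT : Nat.card T' = 8192 := by
    have h3 := T'.card_eq_multiplicity
    rw [hcard] at h3
    have h4 : (448345497600 : ℕ).factorization 2 = 13 := by
      rw [Nat.factorization_def _ Nat.prime_two]
      have h5 : (448345497600 : ℕ) = 2 ^ 13 * 54729675 := by norm_num
      rw [h5, padicValNat.mul (by norm_num) (by norm_num), padicValNat.prime_pow,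
        padicValNat.eq_zero_of_not_dvd (by norm_num)]
    rw [h4] at h3
    rw [h3]; norm_num
  have hTT : T = (T' : Subgroup Suz) := by
    apply Subgroup.eq_of_le_of_card_ge hT'
    rw [card_T]
    exact hcT.le
  -- transport
  let Q' : Sylow 2 Suz := Q.mapSurjective (f := (e : S →* Suz)) e.surjective
  obtain ⟨f, hf⟩ := rk_T
  have e1 : ↥(Q : Subgroup S) ≃* ↥(Q' : Subgroup Suz) :=
    (Q : Subgroup S).equivMapOfInjective (e : S →* Suz) e.injective
  have e2 : ↥(Q' : Subgroup Suz) ≃* ↥(T' : Subgroup Suz) := Sylow.equiv Q' T'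
  have e3 : ↥(T' : Subgroup Suz) ≃* ↥T := MulEquiv.subgroupCongr hTT.symm
  exact ⟨f.comp ((e1.trans (e2.trans e3)) : ↥(Q : Subgroup S) →* ↥T),
    hf.comp (e1.trans (e2.trans e3)).surjective⟩

end Cfsg.Agent.H834.K547
end

-- part: H834/K547/SuzRow
section
/-!
# S4547: the row of `Suz` (helper834)

The character of degree 1001 in the permutation character on 1782 points is invariant under all automorphisms and
vanishes at the elements of order 11, which form one class: (PAR) gives three good invariant characters.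
-/

set_option autoImplicit false

open Cfsg Cfsg.Agent.Characters.Core Cfsg.Agent.Characters

namespace Cfsg.Agent.H834.K547

open Cfsg.Agent.H601.K4 Cfsg.Agent.H821.K547 Cfsg.Agent.H329.K4
open Cfsg.Spor (Suz)
open Cfsg.Agent.H978.TZ.Suzuki (finS exists_chars eq_of_sum card_Fx_aut)
open Cfsg.Agent.H299.K4.SuzRow (card_suz card_Fx_pow)

universe u

/-- the character of degree 1001 -/
theorem exists_1001' : ∃ β : Suz → ℂ, Good β ∧ β 1 = 1001 ∧ ∀ (φ : MulAut Suz) (g : Suz), β (φ g) = β g := by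
  have := finS
  obtain ⟨χ, ψ, h1, h2, hfx⟩ := exists_chars
  have db : charDegree (ψ : Suz → ℂ) = 1001 := Cfsg.Agent.Blocks.Basic.charDegree_of_eq (by rw [h2]; norm_num)
  refine ⟨ψ, ?_, h2, fun φ g => ?_⟩
  · refine good_of (Cfsg.Agent.H989.TwoCSpor.twoC_suz ⟨MulEquiv.refl _⟩) ⟨ψ.2, by rw [db]; decide⟩
      (SigFix.of_pow fun k hk g => ?_)
    have k1 : IsIrrCharacter Suz (fun g => (χ : Suz → ℂ) (g ^ k)) := GaloisIrr.isIrr_pow hk χ.2
    have k2 : IsIrrCharacter Suz (fun g => (ψ : Suz → ℂ) (g ^ k)) := GaloisIrr.isIrr_pow hk ψ.2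
    have h := (eq_of_sum χ.2 ψ.2 k1 k2 (fun x => ?_) ?_ ?_).symm
    · exact congrFun h g
    · rw [← hfx]
      show _ = 1 + (χ : Suz → ℂ) (x ^ k) + (ψ : Suz → ℂ) (x ^ k)
      rw [← hfx, card_Fx_pow hk]
    · show (χ : Suz → ℂ) 1 ≠ (ψ : Suz → ℂ) (1 ^ k)
      rw [one_pow, h1, h2]
      norm_num
    · show (χ : Suz → ℂ) (1 ^ k) ≠ (ψ : Suz → ℂ) (1 ^ k)
      rw [one_pow, h1, h2]
      norm_num
  · have k1 : IsIrrCharacter Suz ((χ : Suz → ℂ) ∘ φ) := isIrr_comp (φ : Suz →* Suz) φ.surjective χ.2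
    have k2 : IsIrrCharacter Suz ((ψ : Suz → ℂ) ∘ φ) := isIrr_comp (φ : Suz →* Suz) φ.surjective ψ.2
    have h := (eq_of_sum χ.2 ψ.2 k1 k2 (fun x => ?_) ?_ ?_).symm
    · exact congrFun h g
    · rw [← hfx]
      show _ = 1 + (χ : Suz → ℂ) (φ x) + (ψ : Suz → ℂ) (φ x)
      rw [← hfx, card_Fx_aut]
    · show (χ : Suz → ℂ) 1 ≠ (ψ : Suz → ℂ) (φ 1)
      rw [map_one, h1, h2]
      norm_num
    · show (χ : Suz → ℂ) (φ 1) ≠ (ψ : Suz → ℂ) (φ 1)
      rw [map_one, h1, h2]
      norm_num

/-- **three invariant good characters** -/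
theorem gInv3_model {τ : MulAut Suz} (hτ : TwoPow τ) : GInv3 τ := by
  have := finS
  have : Fact (Nat.Prime 11) := ⟨by norm_num⟩
  obtain ⟨β, hb, hb1, hbi⟩ := exists_1001'
  obtain ⟨t, ht, hC⟩ := Cfsg.Agent.H348.PPD.RowSuz.cent11
  refine gInv3_of_zero (by rw [card_suz]; decide) hτ hb (hbi τ) (t := t) (by rw [ht]; decide) ?_ ?_
  · refine isConj_of_self (p := 11) (m := 40758681600) (by rw [card_suz]) ht hC (by norm_num) ?_ ht
    rw [MulEquiv.orderOf_eq, ht]
  · exact H740.K4.zero_of_dvd (p := 11) (n := 1) (d := 1001) (by norm_num) (by rw [card_suz]; norm_num)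
      (by rw [card_suz]; norm_num) hb.odd.1 (by rw [hb1]; norm_num) (by norm_num) (by rw [ht])

theorem gInv3_suz {S : Type u} [Group S] (h : Spor.IsoSuz S) {τ : MulAut S} (hτ : TwoPow τ) : GInv3 τ := by
  obtain ⟨e⟩ := h
  exact gInv3_of_equiv e (tr_apply e τ) (gInv3_model (TwoPow.tr e hτ))

/-- squares are inner -/
theorem sq_suz {S : Type u} [Group S] (h : Spor.IsoSuz S) (τ : MulAut S) : ∃ s : S, τ ^ 2 = MulAut.conj s := by
  obtain ⟨e⟩ := h
  obtain ⟨n, hn⟩ := sq_inner_of_index (S := Suz) Cfsg.Agent.S2074.result (tr e τ)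
  refine ⟨e.symm n, ?_⟩
  ext x
  apply e.injective
  have h1 := congrArg (fun a : MulAut Suz => a (e x)) hn
  simp only [tr_pow, e.symm_apply_apply, MulAut.conj_apply] at h1
  rw [h1, MulAut.conj_apply, map_mul, map_mul, map_inv, e.apply_symm_apply]

theorem base_suz {S : Type u} [Group S] (h : Spor.IsoSuz S) : BaseRow S :=
  Or.inl ⟨Cfsg.Agent.H299.K4.SuzRow.good5 h, d3_suz h⟩

end Cfsg.Agent.H834.K547
end

private theorem dce_13533d8b7a33 : _root_.True := by
  try have : _root_.True := by simp only [_root_.Cfsg.Agent.H834.K547.lbChk.congr_simp]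
  try have : _root_.True := by simp only [_root_.Cfsg.Agent.H834.K547.lbRow.congr_simp]
  try have : _root_.True := by simp only [_root_.Cfsg.Agent.H834.K547.lbChk.eq_1]
  try have : _root_.True := by simp only [_root_.Cfsg.Agent.H834.K547.lbChk.eq_2]
  try have : _root_.True := by simp only [_root_.Cfsg.Agent.H834.K547.PCL._sparseCasesOn_2.else_eq]
  try have : _root_.True := by simp only [_root_.Cfsg.Agent.H834.K547.lbRow.eq_def]
  try have : _root_.True := by simp only [_root_.Cfsg.Agent.H834.K547.lbChk.eq_def]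
  try have : _root_.True := by simp only [_root_.Cfsg.Agent.H834.K547.lbRow.eq_3]
  try have : _root_.True := by simp only [_root_.Cfsg.Agent.H834.K547.PCL._sparseCasesOn_1.else_eq]
  try have : _root_.True := by simp only [_root_.Cfsg.Agent.H834.K547.lbChk.eq_3]
  try have : _root_.True := by simp only [_root_.Cfsg.Agent.H834.K547.lbRow.eq_2]
  try have : _root_.True := by simp only [_root_.Cfsg.Agent.H834.K547.lbRow.eq_1]
  exact _root_.True.intro
end
end
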